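import Cfsg.Agent.Lib.OddBaseTwo.Basic
import Cfsg.Agent.Lib.Solvable.Basic
import Mathlib.GroupTheory.GroupAction.Quotient
import Mathlib.GroupTheory.GroupAction.SubMulAction
import Mathlib.Data.Set.Card

/-!
# Subsets with trivial setwise stabiliser (Gluck, odd solvable groups)

`exists_subset`: a solvable group of odd order acting on fewer than `n` points has a set of points
whose setwise stabiliser acts trivially, given bases of size two for modules of order below `n`.
-/

set_option autoImplicit false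
set_option linter.style.haveILetI false

namespace Cfsg.Agent.OddBaseTwo

open MulAction

universe u

/-- A permutation of odd order of three points is trivial or a three-cycle. -/
theorem three_set {G : Type u} [Group G] [Finite G] {X : Type u} [MulAction G X]
    (hodd : Odd (Nat.card G)) {g : G} {x y z : X} (hxy : x ≠ y) (hxz : x ≠ z) (hyz : y ≠ z)
    (hg : ∀ t ∈ ({x, y, z} : Set X), g • t ∈ ({x, y, z} : Set X)) :
    (g • x = x ∧ g • y = y ∧ g • z = z) ∨
      ∃ g' : G, g' • x = y ∧ g' • y = z ∧ g' • z = x := by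
  have hinj : ∀ a b : X, g • a = g • b → a = b := fun a b h => smul_left_cancel g h
  have hsw : ∀ a b : X, g • a = b → g • b = a → a = b := fun a b h1 h2 => by
    rw [← h1, smul_eq_of_sq hodd (show g • g • a = a by rw [h1, h2])]
  simp only [Set.mem_insert_iff, Set.mem_singleton_iff] at hg
  have hx := hg x (Or.inl rfl)
  have hy := hg y (Or.inr (Or.inl rfl))
  have hz := hg z (Or.inr (Or.inr rfl))
  rcases hx with hx | hx | hx <;> rcases hy with hy | hy | hy <;> rcases hz with hz | hz | hz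
  all_goals first
    | exact absurd (hinj _ _ (hx.trans hy.symm)) hxy
    | exact absurd (hinj _ _ (hx.trans hz.symm)) hxz
    | exact absurd (hinj _ _ (hy.trans hz.symm)) hyz
    | exact absurd (hsw _ _ hx hy) hxy
    | exact absurd (hsw _ _ hx hz) hxz
    | exact absurd (hsw _ _ hy hz) hyz
    | exact Or.inl ⟨hx, hy, hz⟩
    | exact Or.inr ⟨g, hx, hy, hz⟩
    | exact Or.inr ⟨g * g, by rw [mul_smul, hx, hz], by rw [mul_smul, hy, hx],
        by rw [mul_smul, hz, hy]⟩

/-- The affine case. -/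
theorem exists_subset_primitive {n : ℕ} (hB : BaseBelow.{u} n) {G : Type u} [Group G] [Finite G]
    {X : Type u} [Finite X] [MulAction G X] [FaithfulSMul G X] [IsPretransitive G X]
    (hsol : Group.IsSolvable G) (hodd : Odd (Nat.card G)) {x₀ : X}
    (hmax : IsCoatom (stabilizer G x₀)) (hX : Nat.card X < n) :
    ∃ T : Set X, ∀ g : G, (∀ x ∈ T, g • x ∈ T) → g = 1 := by
  haveI := hsol
  have hsol' : Group.IsSolvable (⊤ : Subgroup G) := inferInstance
  have htop : (⊤ : Subgroup G) ≠ ⊥ := fun h =>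
    hmax.1 (eq_top_iff.2 (h.trans_le bot_le))
  obtain ⟨M, p, hMn, -, hMne, hmin, hMc, -, -⟩ :=
    Solvable.exists_abelian_minimal_normal hsol' htop
  haveI := hMn
  haveI := hMc
  -- `M` is regular
  have hMH : ¬ M ≤ stabilizer G x₀ := fun h => hMne ((Subgroup.eq_bot_iff_forall M).2 fun m hm =>
    eq_of_smul_eq_smul fun x : X => by
      obtain ⟨g, rfl⟩ := exists_smul_eq G x₀ x
      have h1 := mem_stabilizer_iff.1 (h (hMn.conj_mem m hm g⁻¹))
      rw [inv_inv, mul_smul, mul_smul, inv_smul_eq_iff] at h1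
      rw [one_smul, h1])
  have hsup : M ⊔ stabilizer G x₀ = ⊤ :=
    hmax.2 _ (right_lt_sup.2 hMH)
  have hdec : ∀ g : G, ∃ m ∈ M, ∃ h ∈ stabilizer G x₀, m * h = g := fun g =>
    Subgroup.mem_sup_of_normal_left.1 (hsup ▸ Subgroup.mem_top g)
  have hsurj : ∀ x : X, ∃ m : M, (m : G) • x₀ = x := fun x => by
    obtain ⟨g, rfl⟩ := exists_smul_eq G x₀ x
    obtain ⟨m, hm, h, hh, rfl⟩ := hdec g
    exact ⟨⟨m, hm⟩, by rw [mul_smul, mem_stabilizer_iff.1 hh]⟩
  have hcomm : ∀ a b : M, a * b = b * a := fun a b => mul_comm' a b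
  have hinj : ∀ a b : M, (a : G) • x₀ = (b : G) • x₀ → a = b := fun a b hab => by
    refine inv_mul_eq_one.1 (Subtype.ext (eq_of_smul_eq_smul fun x : X => ?_))
    obtain ⟨c, rfl⟩ := hsurj x
    rw [Subgroup.coe_one, one_smul, ← mul_smul, ← Subgroup.coe_mul, hcomm, Subgroup.coe_mul, mul_smul,
      Subgroup.coe_mul, mul_smul, Subgroup.coe_inv, ← hab, inv_smul_smul]
  -- the stabiliser as linear group on `M`
  set H := stabilizer G x₀ with hH
  letI : CommGroup M := { (inferInstance : Group M) with mul_comm := hcomm }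
  let φ : H →* MulAut M := MulAut.conjNormal.comp H.subtype
  letI act : DistribMulAction H (Additive M) :=
    { smul := fun h a => Additive.ofMul (φ h a.toMul)
      one_smul := fun a => by
        show Additive.ofMul (φ 1 a.toMul) = a
        rw [map_one]; rfl
      mul_smul := fun h h' a => by
        show Additive.ofMul (φ (h * h') a.toMul) = Additive.ofMul (φ h (φ h' a.toMul))
        rw [map_mul]; rfl
      smul_zero := fun h => by
        show Additive.ofMul (φ h 1) = Additive.ofMul (1 : M)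
        rw [map_one]
      smul_add := fun h a b => by
        show Additive.ofMul (φ h (a.toMul * b.toMul)) = Additive.ofMul (φ h a.toMul * φ h b.toMul)
        rw [map_mul] }
  have hmove : ∀ (h : H) (a : M), (h : G) • (a : G) • x₀ = ((φ h a : M) : G) • x₀ := fun h a => by
    show _ = ((h : G) * a * (h : G)⁻¹) • x₀
    rw [mul_smul, mul_smul, mem_stabilizer_iff.1 (inv_mem h.2)]
  have hirr : IsIrr H (Additive M) := by
    intro U hU
    let N : Subgroup G := (AddSubgroup.toSubgroup' U).map M.subtype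
    have hNM : N ≤ M := by rintro _ ⟨a, -, rfl⟩; exact a.2
    have hNn : N.Normal := ⟨fun y hy g => by
      obtain ⟨a, ha, rfl⟩ := hy
      obtain ⟨m, hm, h, hh, rfl⟩ := hdec g
      refine ⟨φ ⟨h, hh⟩ a, hU ⟨h, hh⟩ _ ha, ?_⟩
      show h * (a : G) * h⁻¹ = m * h * (a : G) * (m * h)⁻¹
      have h1 := congrArg Subtype.val (hcomm ⟨m, hm⟩ (φ ⟨h, hh⟩ a))
      change m * (h * (a : G) * h⁻¹) = h * (a : G) * h⁻¹ * m at h1
      rw [mul_inv_rev, show m * h * (a : G) * (h⁻¹ * m⁻¹) = m * (h * (a : G) * h⁻¹) * m⁻¹ by group, h1]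
      group⟩
    rcases hmin N hNn hNM with h | h
    · left
      refine eq_bot_iff.2 fun a ha => AddSubgroup.mem_bot.2 ?_
      have h1 : ((a.toMul : M) : G) ∈ N := ⟨a.toMul, ha, rfl⟩
      rw [h, Subgroup.mem_bot, OneMemClass.coe_eq_one] at h1
      exact congrArg Additive.ofMul h1
    · right
      refine eq_top_iff.2 fun a _ => ?_
      have h1 : ((a.toMul : M) : G) ∈ N := by rw [h]; exact SetLike.coe_mem _
      obtain ⟨b, hb, hba⟩ := h1
      have hb' : b = a.toMul := Subtype.ext hba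
      subst hb'
      exact hb
  have hcard : Nat.card (Additive M) < n := lt_of_eq_of_lt
    (Nat.card_congr (Equiv.ofBijective (fun a : Additive M => ((a.toMul : M) : G) • x₀)
      ⟨fun a b hab => congrArg Additive.ofMul (hinj _ _ hab), fun x => by
        obtain ⟨m, hm⟩ := hsurj x
        exact ⟨Additive.ofMul m, hm⟩⟩)) hX
  haveI : Finite (Additive M) := inferInstanceAs (Finite M)
  obtain ⟨va, wa, hvw⟩ := hB H (Additive M) hcard inferInstance (odd_card_subgroup hodd H) hirr.isCR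
  obtain ⟨v, rfl⟩ := Additive.ofMul.surjective va
  obtain ⟨w, rfl⟩ := Additive.ofMul.surjective wa
  have hfix : ∀ g : G, g • x₀ = x₀ → g • (v : G) • x₀ = (v : G) • x₀ →
      g • (w : G) • x₀ = (w : G) • x₀ → g = 1 := by
    intro g h0 h1 h2
    let h : H := ⟨g, mem_stabilizer_iff.2 h0⟩
    have e1 : φ h v = v := hinj _ _ ((hmove h v).symm.trans h1)
    have e2 : φ h w = w := hinj _ _ ((hmove h w).symm.trans h2)
    have e3 := hvw h (congrArg Additive.ofMul e1) (congrArg Additive.ofMul e2)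
    refine eq_of_smul_eq_smul fun x : X => ?_
    obtain ⟨a, rfl⟩ := hsurj x
    rw [one_smul]
    exact (hmove h a).trans (congrArg (fun b : M => (b : G) • x₀)
      (congrArg Additive.toMul (e3 (Additive.ofMul a))))
  have hpow : ∀ (g : G) (a b : M), b ∈ Subgroup.zpowers a → g • x₀ = x₀ →
      g • (a : G) • x₀ = (a : G) • x₀ → g • (b : G) • x₀ = (b : G) • x₀ := by
    rintro g a _ ⟨k, rfl⟩ h0 h1
    let h : H := ⟨g, mem_stabilizer_iff.2 h0⟩
    have e1 : φ h a = a := hinj _ _ ((hmove h a).symm.trans h1)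
    exact (hmove h (a ^ k)).trans (by rw [map_zpow, e1])
  have htwo : ∀ (g : G) (a : M), (∀ x ∈ ({x₀, (a : G) • x₀} : Set X),
      g • x ∈ ({x₀, (a : G) • x₀} : Set X)) → g • x₀ = x₀ ∧ g • (a : G) • x₀ = (a : G) • x₀ := by
    intro g a hg
    simp only [Set.mem_insert_iff, Set.mem_singleton_iff] at hg
    rcases hg x₀ (Or.inl rfl) with h1 | h1 <;> rcases hg _ (Or.inr rfl) with h2 | h2
    · exact ⟨h1, by rw [h2]; exact (smul_left_cancel g (h1.trans h2.symm))⟩
    · exact ⟨h1, h2⟩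
    · have h3 : g • x₀ = x₀ := smul_eq_of_sq hodd (by rw [h1, h2])
      exact ⟨h3, by rw [← h1, h3, h3]⟩
    · have h3 : x₀ = (a : G) • x₀ := smul_left_cancel g (h1.trans h2.symm)
      exact ⟨h1.trans h3.symm, h2⟩
  by_cases hwv : w ∈ Subgroup.zpowers v
  · refine ⟨{x₀, (v : G) • x₀}, fun g hg => ?_⟩
    obtain ⟨h0, h1⟩ := htwo g v hg
    exact hfix g h0 h1 (hpow g v w hwv h0 h1)
  by_cases hv1 : v = 1
  · refine ⟨{x₀, (w : G) • x₀}, fun g hg => ?_⟩
    obtain ⟨h0, h1⟩ := htwo g w hg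
    exact hfix g h0 (hpow g w v (hv1 ▸ one_mem _) h0 h1) h1
  have hne0 : ∀ a : M, a ≠ 1 → x₀ ≠ (a : G) • x₀ := fun a ha h => ha (hinj a 1 (by
    rw [Subgroup.coe_one, one_smul, ← h]))
  have hw1 : w ≠ 1 := fun h => hwv (h ▸ one_mem _)
  have hwv' : w ≠ v := fun h => hwv (h ▸ Subgroup.mem_zpowers v)
  have hvw1 : v * w ≠ 1 := fun h => hwv (by
    rw [eq_inv_of_mul_eq_one_right h]; exact inv_mem (Subgroup.mem_zpowers v))
  -- an element with a three-cycle gives a linear map
  have hcyc : ∀ (a b : M) (g : G), g • x₀ = (a : G) • x₀ → g • (a : G) • x₀ = (b : G) • x₀ →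
      g • (b : G) • x₀ = x₀ → ∃ h : H, φ h a = a⁻¹ * b ∧ φ h b = a⁻¹ := by
    intro a b g h1 h2 h3
    obtain ⟨m, hm, h, hh, rfl⟩ := hdec g
    have hma : (⟨m, hm⟩ : M) = a := hinj _ _ (by
      rw [← h1, mul_smul, mem_stabilizer_iff.1 hh])
    have hma' : m = (a : G) := congrArg Subtype.val hma
    rw [mul_smul, hma', hmove ⟨h, hh⟩ a, ← mul_smul, ← Subgroup.coe_mul] at h2
    rw [mul_smul, hma', hmove ⟨h, hh⟩ b, ← mul_smul, ← Subgroup.coe_mul] at h3
    refine ⟨⟨h, hh⟩, eq_inv_mul_of_mul_eq (hinj _ _ h2),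
      eq_inv_of_mul_eq_one_right (hinj _ 1 ?_)⟩
    rw [h3, Subgroup.coe_one, one_smul]
  by_contra hcon
  push Not at hcon
  obtain ⟨g₁, hg₁, hg₁'⟩ := hcon {x₀, (v : G) • x₀, (w : G) • x₀}
  obtain ⟨g₃, hg₃, hg₃'⟩ := hcon {x₀, (v : G) • x₀, ((v * w : M) : G) • x₀}
  obtain ⟨e0, e1, e2⟩ | ⟨g₁', a1, a2, a3⟩ := three_set hodd (hne0 v hv1) (hne0 w hw1)
    (fun h => hwv' (hinj v w h).symm) hg₁
  · exact hg₁' (hfix g₁ e0 e1 e2)
  obtain ⟨e0, e1, e2⟩ | ⟨g₃', b1, b2, b3⟩ := three_set hodd (hne0 v hv1) (hne0 _ hvw1)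
    (fun h => hw1 (mul_eq_left.1 (hinj v (v * w) h).symm)) hg₃
  · refine hg₃' (hfix g₃ e0 e1 ?_)
    let h : H := ⟨g₃, mem_stabilizer_iff.2 e0⟩
    have f1 : φ h v = v := hinj _ _ ((hmove h v).symm.trans e1)
    have f2 : φ h (v * w) = v * w := hinj _ _ ((hmove h (v * w)).symm.trans e2)
    rw [map_mul, f1] at f2
    exact (hmove h w).trans (by rw [mul_left_cancel f2])
  obtain ⟨h₁, -, c1⟩ := hcyc v w g₁' a1 a2 a3
  obtain ⟨h₃, c3, -⟩ := hcyc v (v * w) g₃' b1 b2 b3
  rw [inv_mul_cancel_left] at c3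
  set k := h₃ * h₁ with hk
  have hkw : φ k w = w⁻¹ := by
    rw [hk, map_mul, MulAut.mul_apply, c1, map_inv, c3]
  have hkfix : k • Additive.ofMul w = Additive.ofMul w := smul_eq_of_sq (odd_card_subgroup hodd H) (by
    show Additive.ofMul (φ k (φ k w)) = _
    rw [hkw, map_inv, hkw, inv_inv])
  have hww : w⁻¹ = w := by
    rw [← hkw]
    exact Additive.ofMul.injective hkfix
  have hMo := odd_card_subgroup hodd M
  obtain ⟨j, hj⟩ := eq_sq_pow hMo w
  rw [sq, show w * w = 1 by nth_rewrite 1 [← hww]; exact inv_mul_cancel w, one_pow] at hj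
  exact hw1 hj.symm

theorem card_lt_of_injective_notMem {α β : Type u} [Finite β] (f : α → β) (h : Function.Injective f)
    {b : β} (hb : ∀ a, f a ≠ b) : Nat.card α < Nat.card β := by
  haveI := Fintype.ofFinite β
  haveI := Fintype.ofInjective f h
  rw [Nat.card_eq_fintype_card, Nat.card_eq_fintype_card]
  exact Fintype.card_lt_of_injective_of_notMem f h (b := b) fun ⟨a, ha⟩ => hb a ha

theorem exists_subset_aux {n : ℕ} (hB : BaseBelow.{u} n) :
    ∀ (N : ℕ) {G : Type u} [Group G] [Finite G] {X : Type u} [Finite X] [MulAction G X],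
      Group.IsSolvable G → Odd (Nat.card G) → Nat.card X = N → N < n →
      ∃ T : Set X, ∀ g : G, (∀ x ∈ T, g • x ∈ T) → ∀ x : X, g • x = x := by
  intro N
  induction N using Nat.strong_induction_on with
  | _ N ih =>
  intro G _ _ X _ _ hsol hodd hN hNn
  haveI := hsol
  rcases isEmpty_or_nonempty X with hX | ⟨⟨x₀⟩⟩
  · exact ⟨∅, fun g _ x => isEmptyElim x⟩
  by_cases htr : ∀ x : X, x ∈ orbit G x₀
  swap
  · -- intransitive
    push Not at htr
    obtain ⟨y, hy⟩ := htr
    let A : SubMulAction G X := ⟨orbit G x₀, fun g {x} hx => by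
      rw [← orbit_eq_iff.2 hx]; exact mem_orbit x g⟩
    let B : SubMulAction G X := ⟨(orbit G x₀)ᶜ, fun g {x} hx h => hx (by
      have := A.smul_mem' g⁻¹ h
      rwa [inv_smul_smul] at this)⟩
    have hA : Nat.card A < N := hN ▸ card_lt_of_injective_notMem (Subtype.val)
      Subtype.val_injective (b := y) (fun ⟨z, hz⟩ h => hy (h ▸ hz))
    have hB' : Nat.card B < N := hN ▸ card_lt_of_injective_notMem (Subtype.val)
      Subtype.val_injective (b := x₀) (fun ⟨z, hz⟩ h => hz (by rw [show z = x₀ from h]; exact mem_orbit_self x₀))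
    obtain ⟨T₁, hT₁⟩ := ih _ hA (G := G) (X := A) hsol hodd rfl (hA.trans hNn)
    obtain ⟨T₂, hT₂⟩ := ih _ hB' (G := G) (X := B) hsol hodd rfl (hB'.trans hNn)
    refine ⟨Subtype.val '' T₁ ∪ Subtype.val '' T₂, fun g hg x => ?_⟩
    by_cases hx : x ∈ orbit G x₀
    · refine congrArg Subtype.val (hT₁ g (fun a ha => ?_) ⟨x, hx⟩)
      rcases hg _ (Or.inl ⟨a, ha, rfl⟩) with ⟨b, hb, hba⟩ | ⟨b, hb, hba⟩
      · rwa [← show b = g • a from Subtype.ext hba]
      · exact absurd (A.smul_mem' g a.2) (hba ▸ b.2)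
    · refine congrArg Subtype.val (hT₂ g (fun a ha => ?_) ⟨x, hx⟩)
      rcases hg _ (Or.inr ⟨a, ha, rfl⟩) with ⟨b, hb, hba⟩ | ⟨b, hb, hba⟩
      · exact absurd (hba ▸ b.2 : g • (a : X) ∈ orbit G x₀) (B.smul_mem' g a.2)
      · rwa [← show b = g • a from Subtype.ext hba]
  haveI : IsPretransitive G X := ⟨fun a b => by
    obtain ⟨g, rfl⟩ := htr a
    obtain ⟨g', rfl⟩ := htr b
    exact ⟨g' * g⁻¹, by show (g' * g⁻¹) • g • x₀ = g' • x₀; rw [mul_smul, inv_smul_smul]⟩⟩
  by_cases hfull : stabilizer G x₀ = ⊤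
  · refine ⟨∅, fun g _ x => ?_⟩
    obtain ⟨a, rfl⟩ := htr x
    have h : ∀ b : G, b • x₀ = x₀ := fun b => mem_stabilizer_iff.1 (hfull ▸ Subgroup.mem_top b)
    show g • a • x₀ = a • x₀
    rw [h a, h g]
  obtain ⟨K, hK, hHK⟩ := (eq_top_or_exists_le_coatom (stabilizer G x₀)).resolve_left hfull
  by_cases hKH : K = stabilizer G x₀
  · -- primitive
    set f := (MulAction.toPermHom G X).rangeRestrict with hf
    have hfs : Function.Surjective f := MonoidHom.rangeRestrict_surjective _
    haveI : IsPretransitive (MulAction.toPermHom G X).range X := ⟨fun a b => by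
      obtain ⟨g, hg⟩ := exists_smul_eq G a b
      exact ⟨f g, hg⟩⟩
    have hcomap : (stabilizer (MulAction.toPermHom G X).range x₀).comap f = stabilizer G x₀ := by
      ext g; rfl
    have hmax : IsCoatom (stabilizer (MulAction.toPermHom G X).range x₀) := by
      refine ⟨fun h => hfull (by rw [← hcomap, h, Subgroup.comap_top]), fun L hL => ?_⟩
      have h1 : K ≤ L.comap f := by rw [hKH, ← hcomap]; exact Subgroup.comap_mono hL.le
      rcases h1.lt_or_eq with h2 | h2
      · exact Subgroup.comap_injective hfs ((hK.2 _ h2).trans (Subgroup.comap_top f).symm)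
      · exact absurd (Subgroup.comap_injective hfs ((hcomap.trans hKH.symm).trans h2)) hL.ne
    obtain ⟨T, hT⟩ := exists_subset_primitive hB (Group.isSolvable_of_surjective hfs)
      (odd_card_range hodd _) hmax (hN ▸ hNn)
    exact ⟨T, fun g hg x => by
      have h := congrArg (fun e : (MulAction.toPermHom G X).range => (e : Equiv.Perm X) x)
        (hT (f g) hg)
      exact h⟩
  -- imprimitive
  choose rep hrep using htr
  replace hrep : ∀ x, rep x • x₀ = x := hrep
  let c : X → G ⧸ K := fun x => QuotientGroup.mk (rep x)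
  have hc : ∀ (g : G) (x : X), g • x₀ = x → c x = QuotientGroup.mk g := fun g x h =>
    QuotientGroup.eq.2 (hHK (mem_stabilizer_iff.2 (by rw [mul_smul, inv_smul_eq_iff, h, hrep])))
  have hcs : ∀ (g : G) (x : X), c (g • x) = g • c x := fun g x => by
    rw [hc (g * rep x) (g • x) (by rw [mul_smul, hrep])]
    rfl
  have hc0 : c x₀ = ((1 : G) : G ⧸ K) := hc 1 x₀ (one_smul _ _)
  let S : SubMulAction K X := ⟨{x | c x = ((1 : G) : G ⧸ K)}, fun k {x} hx => by
    show c ((k : G) • x) = _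
    rw [hcs, show c x = _ from hx]
    exact QuotientGroup.eq.2 (by simp [k.2])⟩
  obtain ⟨g₀, hg₀⟩ : ∃ g, g ∉ K := by
    by_contra! h; exact hK.1 (eq_top_iff.2 fun x _ => h x)
  have hS : Nat.card S < N := hN ▸ card_lt_of_injective_notMem (Subtype.val)
      Subtype.val_injective (b := g₀ • x₀) (fun ⟨z, hz⟩ h => hg₀ (by
        have h1 : c (g₀ • x₀) = ((1 : G) : G ⧸ K) := h ▸ hz
        rw [hc g₀ _ rfl] at h1
        simpa using QuotientGroup.eq.1 h1))
  have hQ : Nat.card (G ⧸ K) < N := by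
    have hidx : (stabilizer G x₀).index = N := by rw [index_stabilizer_of_transitive G x₀, hN]
    rw [← Subgroup.index, ← hidx, ← Subgroup.relIndex_mul_index hHK]
    refine lt_mul_of_one_lt_left (Nat.pos_of_ne_zero Subgroup.index_ne_zero_of_finite)
      (lt_of_le_of_ne (Nat.pos_of_ne_zero ?_) fun h => hKH (le_antisymm
        (Subgroup.relIndex_eq_one.1 h.symm) hHK))
    exact Subgroup.index_ne_zero_of_finite
  obtain ⟨t, ht⟩ := ih _ hS (G := K) (X := S) inferInstance (odd_card_subgroup hodd K) rfl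
    (hS.trans hNn)
  obtain ⟨Q, hQ'⟩ := ih _ hQ (G := G) (X := G ⧸ K) hsol hodd rfl (hQ.trans hNn)
  have hodS : Odd (Nat.card S) := by
    have : (S : Set X) = orbit K x₀ := by
      ext x
      constructor
      · intro hx
        have h1 : ((rep x : G) : G ⧸ K) = ((1 : G) : G ⧸ K) := hx
        exact ⟨⟨rep x, by simpa using QuotientGroup.eq.1 h1⟩, hrep x⟩
      · rintro ⟨k, rfl⟩
        exact S.smul_mem' k hc0
    rw [show Nat.card S = Nat.card (orbit K x₀) from Nat.card_congr (Equiv.setCongr this),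
      Nat.card_congr (orbitEquivQuotientStabilizer K x₀)]
    exact (odd_card_subgroup hodd K).of_dvd_nat (Subgroup.index_dvd_card _)
  let r : X → G := fun x => (c x).out
  have hr : ∀ x, c ((r x)⁻¹ • x) = ((1 : G) : G ⧸ K) := fun x => by
    rw [hcs, inv_smul_eq_iff]
    show c x = ((r x * 1 : G) : G ⧸ K)
    rw [mul_one]
    exact (QuotientGroup.out_eq' _).symm
  let col : X → Prop := fun x => (⟨(r x)⁻¹ • x, hr x⟩ : S) ∈ t
  refine ⟨{x | col x ↔ c x ∈ Q}, fun g hg => ?_⟩
  have hg' : ∀ x, (col (g • x) ↔ c (g • x) ∈ Q) ↔ (col x ↔ c x ∈ Q) := by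
    intro x
    refine ⟨fun h => ?_, hg x⟩
    have himg : (fun x => g • x) '' {x : X | col x ↔ c x ∈ Q} = {x : X | col x ↔ c x ∈ Q} :=
      Set.eq_of_subset_of_ncard_le (Set.image_subset_iff.2 hg)
        (Set.ncard_image_of_injective _ (MulAction.injective g)).ge
    have h' : g • x ∈ {x : X | col x ↔ c x ∈ Q} := h
    rw [← himg] at h'
    obtain ⟨y, hy, hyx⟩ := h'
    exact smul_left_cancel g hyx ▸ hy
  -- the element of `K` induced on a block
  have hstep : ∀ q : G ⧸ K, ∃ k : K, (g • q).out * (k : G) = g * q.out ∧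
      ∀ y : S, ((k • y ∈ t ↔ g • q ∈ Q) ↔ (y ∈ t ↔ q ∈ Q)) := by
    intro q
    have hk : ((g • q).out)⁻¹ * (g * q.out) ∈ K := by
      refine QuotientGroup.eq.1 ?_
      rw [QuotientGroup.out_eq']
      conv_lhs => rw [← QuotientGroup.out_eq' q]
      rfl
    refine ⟨⟨_, hk⟩, mul_inv_cancel_left _ _, fun y => ?_⟩
    have hy : c (y : X) = ((1 : G) : G ⧸ K) := y.2
    have hcx : c (q.out • (y : X)) = q := by
      rw [hcs, hy]
      show ((q.out * 1 : G) : G ⧸ K) = q
      rw [mul_one, QuotientGroup.out_eq']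
    have hcgx : c (g • q.out • (y : X)) = g • q := by rw [hcs, hcx]
    have h := hg' (q.out • (y : X))
    rw [hcx, hcgx] at h
    convert h using 3
    · refine Subtype.ext ?_
      show (((g • q).out)⁻¹ * (g * q.out)) • (y : X) = (c (g • q.out • (y : X))).out⁻¹ • _
      rw [hcgx, mul_smul, mul_smul]
    · refine Subtype.ext ?_
      show (y : X) = (c (q.out • (y : X))).out⁻¹ • _
      rw [hcx, inv_smul_smul]
  have hsame : ∀ q : G ⧸ K, g • q ∈ Q ↔ q ∈ Q := by
    intro q
    obtain ⟨k, -, hk⟩ := hstep q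
    by_contra hne
    have himg : (fun y : S => k • y) '' t = tᶜ := by
      ext y
      constructor
      · rintro ⟨z, hz, rfl⟩ hz'
        exact hne (by simpa [hz, hz'] using hk z)
      · intro hy
        refine ⟨k⁻¹ • y, ?_, smul_inv_smul k y⟩
        by_contra hz
        exact hne (by
          have := hk (k⁻¹ • y)
          rw [smul_inv_smul] at this
          simpa [hz, show y ∉ t from hy, not_iff_not] using this)
    have h1 := Set.ncard_add_ncard_compl t
    rw [← himg, Set.ncard_image_of_injective _ (MulAction.injective k)] at h1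
    rw [← h1] at hodS
    exact Nat.not_even_iff_odd.2 hodS ⟨t.ncard, rfl⟩
  have hblocks : ∀ q : G ⧸ K, g • q = q := hQ' g fun q hq => (hsame q).2 hq
  intro x
  obtain ⟨k, hk1, hk⟩ := hstep (c x)
  have hfix := ht k (fun y hy => by
    have := hk y
    rw [hblocks] at this
    tauto) ⟨(r x)⁻¹ • x, hr x⟩
  have h2 : (k : G) • (r x)⁻¹ • x = (r x)⁻¹ • x := congrArg Subtype.val hfix
  rw [hblocks] at hk1
  calc g • x = (g * r x) • (r x)⁻¹ • x := by rw [mul_smul, smul_inv_smul]
    _ = ((r x) * (k : G)) • (r x)⁻¹ • x := by rw [show g * r x = r x * (k : G) from hk1.symm]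
    _ = x := by rw [mul_smul, h2, smul_inv_smul]

/-- Gluck's theorem for solvable groups of odd order, relative to smaller bases. -/
theorem exists_subset {n : ℕ} (hB : BaseBelow.{u} n) {G : Type u} [Group G] [Finite G]
    {X : Type u} [Finite X] [MulAction G X] (hsol : Group.IsSolvable G)
    (hodd : Odd (Nat.card G)) (hX : Nat.card X < n) :
    ∃ T : Set X, ∀ g : G, (∀ x ∈ T, g • x ∈ T) → ∀ x : X, g • x = x :=
  exists_subset_aux hB _ hsol hodd rfl hX

end Cfsg.Agent.OddBaseTwo
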