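import Cfsg.Agent.Lib.OddBaseTwo.Subsets
import Mathlib.Algebra.BigOperators.GroupWithZero.Action
import Mathlib.Algebra.BigOperators.Group.Finset.Piecewise
import Mathlib.Algebra.Order.BigOperators.Group.Finset
import Mathlib.Data.Fintype.BigOperators

/-!
# The imprimitive case

`hasBase_of_decomp`: an irreducible module with a nontrivial decomposition permuted by the group has
a base of size two, given the same for smaller modules.
-/

set_option autoImplicit false
set_option linter.style.haveILetI false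

namespace Cfsg.Agent.OddBaseTwo

open MulAction

universe u v

/-- Two pairs with trivial stabilisers in different orbits. -/
theorem exists_two_pairs {A : Type u} [Group A] [Finite A] {V : Type v} [AddCommGroup V]
    [Nontrivial V] [DistribMulAction A V] (hodd : Odd (Nat.card A)) (hb : HasBase A V) :
    ∃ a₁ b₁ a₂ b₂ : V, (∀ g : A, g • a₁ = a₁ → g • b₁ = b₁ → ∀ z : V, g • z = z) ∧
      (∀ g : A, g • a₂ = a₂ → g • b₂ = b₂ → ∀ z : V, g • z = z) ∧
      ∀ g : A, g • a₁ = a₂ → g • b₁ = b₂ → False := by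
  obtain ⟨a, b, hab⟩ := hb
  by_cases h : a = b
  · subst h
    obtain ⟨c, hc, hcs⟩ : ∃ c : V, c ≠ 0 ∧ ∀ g : A, g • c = c → ∀ z : V, g • z = z := by
      by_cases ha : a = 0
      · obtain ⟨c, hc⟩ := exists_ne (0 : V)
        exact ⟨c, hc, fun g _ => hab g (by rw [ha, smul_zero]) (by rw [ha, smul_zero])⟩
      · exact ⟨a, ha, fun g hg => hab g hg hg⟩
    exact ⟨c, 0, 0, c, fun g hg _ => hcs g hg, fun g _ hg => hcs g hg,
      fun g hg _ => hc (smul_left_cancel g (hg.trans (smul_zero g).symm))⟩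
  · exact ⟨a, b, b, a, hab, fun g hb' ha' => hab g ha' hb', fun g h1 h2 =>
      h (by rw [← h1, smul_eq_of_sq hodd (show g • g • a = a by rw [h1, h2])])⟩

variable {A : Type u} [Group A] {V : Type u} [AddCommGroup V] [DistribMulAction A V]
  {ι : Type u} [Fintype ι] [MulAction A ι]

/-- `V` is the direct sum of the nontrivial `W i`, permuted by the group as it permutes the indices. -/
structure IsDecomp (W : ι → AddSubgroup V) : Prop where
  bij : Function.Bijective (fun x : (i : ι) → W i => ∑ i, (x i : V))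
  smul_mem : ∀ (a : A) (i : ι), ∀ x ∈ W i, a • x ∈ W (a • i)
  ne_bot : ∀ i, W i ≠ ⊥

theorem IsDecomp.eq_of_sum_eq {W : ι → AddSubgroup V} (hd : IsDecomp (A := A) W) {f g : ι → V}
    (hf : ∀ i, f i ∈ W i) (hg : ∀ i, g i ∈ W i) (h : ∑ i, f i = ∑ i, g i) (i : ι) : f i = g i := by
  have h1 := congrFun (@hd.bij.1 (fun i => ⟨f i, hf i⟩) (fun i => ⟨g i, hg i⟩) h) i
  exact congrArg Subtype.val h1

theorem IsDecomp.smul_eq_of_fixes {W : ι → AddSubgroup V} (hd : IsDecomp (A := A) W) {c : ι → V}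
    (hc : ∀ i, c i ∈ W i) {a : A} (ha : a • ∑ i, c i = ∑ i, c i) (i : ι) :
    a • c i = c (a • i) := by
  have h : ∑ j, a • c (a⁻¹ • j) = ∑ j, c j := by
    rw [← ha, Finset.smul_sum]
    exact Equiv.sum_comp (MulAction.toPerm a⁻¹) (fun j => a • c j)
  have h1 := hd.eq_of_sum_eq (fun j => by
    have := hd.smul_mem a _ _ (hc (a⁻¹ • j))
    rwa [smul_inv_smul] at this) hc h (a • i)
  rwa [inv_smul_smul] at h1

/-- A permuted family of subgroups of the summands with a nontrivial member is everything. -/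
theorem IsDecomp.family_top {W : ι → AddSubgroup V} (hd : IsDecomp (A := A) W) (hirr : IsIrr A V)
    (S : ι → AddSubgroup V) (hSW : ∀ i, S i ≤ W i) (hS : ∀ (a : A) (i : ι), ∀ x ∈ S i, a • x ∈ S (a • i))
    {i₀ : ι} (hne : S i₀ ≠ ⊥) (i : ι) : W i ≤ S i := by
  classical
  let U : AddSubgroup V :=
    { carrier := {v | ∃ c : ι → V, (∀ j, c j ∈ S j) ∧ ∑ j, c j = v}
      zero_mem' := ⟨0, fun j => (S j).zero_mem, by simp⟩
      add_mem' := by
        rintro _ _ ⟨c, hc, rfl⟩ ⟨d, hd, rfl⟩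
        exact ⟨c + d, fun j => (S j).add_mem (hc j) (hd j), by simp [Finset.sum_add_distrib]⟩
      neg_mem' := by
        rintro _ ⟨c, hc, rfl⟩
        exact ⟨-c, fun j => (S j).neg_mem (hc j), by simp⟩ }
  have hU : IsInv A V U := by
    rintro a _ ⟨c, hc, rfl⟩
    refine ⟨fun j => a • c (a⁻¹ • j), fun j => ?_, ?_⟩
    · have := hS a _ _ (hc (a⁻¹ • j))
      rwa [smul_inv_smul] at this
    · rw [Finset.smul_sum]
      exact Equiv.sum_comp (MulAction.toPerm a⁻¹) (fun j => a • c j)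
  have hsingle : ∀ (j : ι) (x : V) (T : ι → AddSubgroup V), x ∈ T j → ∀ k, (Pi.single j x : ι → V) k ∈ T k := by
    intro j x T hx k
    by_cases hk : k = j
    · subst hk; rwa [Pi.single_eq_same]
    · rw [Pi.single_eq_of_ne hk]; exact zero_mem _
  rcases hirr U hU with h | h
  · exfalso
    obtain ⟨⟨x, hx⟩, hx0⟩ := AddSubgroup.ne_bot_iff_exists_ne_zero.1 hne
    have hm : x ∈ U := ⟨Pi.single i₀ x, hsingle i₀ x S hx, by simp⟩
    rw [h, AddSubgroup.mem_bot] at hm
    exact hx0 (Subtype.ext hm)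
  · intro x hx
    obtain ⟨c, hc, hcx⟩ := (h ▸ AddSubgroup.mem_top x : x ∈ U)
    have h1 := hd.eq_of_sum_eq (hsingle i x W hx) (fun j => hSW j (hc j)) (by simp [hcx]) i
    rw [Pi.single_eq_same] at h1
    exact h1 ▸ hc i

theorem hasBase_of_decomp [Finite A] [Finite V] (hB : BaseBelow.{u} (Nat.card V))
    (hsol : Group.IsSolvable A) (hodd : Odd (Nat.card A)) (hirr : IsIrr A V)
    {W : ι → AddSubgroup V} (hd : IsDecomp (A := A) W) (h2 : 1 < Fintype.card ι) : HasBase A V := by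
  classical
  haveI := hsol
  obtain ⟨i₀⟩ : Nonempty ι := Fintype.card_pos_iff.1 (by omega)
  -- transitivity
  have htr : ∀ i, i ∈ orbit A i₀ := by
    intro i
    by_contra hi
    let S : ι → AddSubgroup V := fun j => if j ∈ orbit A i₀ then W j else ⊥
    have hS : ∀ (a : A) (j : ι), ∀ x ∈ S j, a • x ∈ S (a • j) := by
      intro a j x hx
      by_cases hj : j ∈ orbit A i₀
      · simp only [S, if_pos hj] at hx
        simp only [S, if_pos (show a • j ∈ orbit A i₀ by rw [← orbit_eq_iff.2 hj]; exact mem_orbit j a)]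
        exact hd.smul_mem a j x hx
      · simp only [S, if_neg hj, AddSubgroup.mem_bot] at hx
        rw [hx, smul_zero]; exact zero_mem _
    have h := hd.family_top hirr S (fun j => by simp only [S]; split_ifs; exacts [le_rfl, bot_le]) hS
      (i₀ := i₀) (by simp only [S, if_pos (mem_orbit_self i₀)]; exact hd.ne_bot i₀) i
    simp only [S, if_neg hi, le_bot_iff] at h
    exact hd.ne_bot i h
  choose rep hrep using htr
  replace hrep : ∀ i, rep i • i₀ = i := hrep
  set B := stabilizer A i₀ with hBdef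
  have hWinv : IsInv B V (W i₀) := fun b x hx => by
    have := hd.smul_mem b i₀ x hx
    rwa [mem_stabilizer_iff.1 b.2] at this
  letI := subAction (W i₀) hWinv
  have hWirr : IsIrr B (W i₀) := by
    intro U hU
    by_cases hU0 : U = ⊥
    · exact Or.inl hU0
    right
    let S : ι → AddSubgroup V := fun j =>
      (U.map (W i₀).subtype).comap (DistribSMul.toAddMonoidHom V (rep j)⁻¹)
    have hmemS : ∀ j x, x ∈ S j ↔ ∃ y ∈ U, (y : V) = (rep j)⁻¹ • x := fun j x => Iff.rfl
    have hb : ∀ (a : A) (j : ι), (rep (a • j))⁻¹ * a * rep j ∈ B := fun a j => by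
      rw [hBdef, mem_stabilizer_iff, mul_smul, mul_smul, hrep, inv_smul_eq_iff, hrep]
    have hSW : ∀ j, S j ≤ W j := fun j x hx => by
      obtain ⟨y, -, hy⟩ := (hmemS j x).1 hx
      have := hd.smul_mem (rep j) i₀ _ y.2
      rwa [hrep, hy, smul_inv_smul] at this
    have hS : ∀ (a : A) (j : ι), ∀ x ∈ S j, a • x ∈ S (a • j) := fun a j x hx => by
      obtain ⟨y, hy, hyx⟩ := (hmemS j x).1 hx
      refine (hmemS _ _).2 ⟨(⟨_, hb a j⟩ : B) • y, hU _ y hy, ?_⟩
      show ((rep (a • j))⁻¹ * a * rep j) • (y : V) = _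
      rw [hyx, mul_smul, mul_smul, smul_inv_smul]
    obtain ⟨⟨y, hy⟩, hy0⟩ := AddSubgroup.ne_bot_iff_exists_ne_zero.1 hU0
    have hne : S i₀ ≠ ⊥ := fun h => hy0 (Subtype.ext (Subtype.ext (by
      have hm : rep i₀ • (y : V) ∈ S i₀ := (hmemS _ _).2 ⟨y, hy, (inv_smul_smul _ _).symm⟩
      rw [h, AddSubgroup.mem_bot, smul_eq_zero_iff_eq] at hm
      exact hm)))
    refine eq_top_iff.2 fun z _ => ?_
    have hm : rep i₀ • (z : V) ∈ S i₀ := hd.family_top hirr S hSW hS hne i₀ (by
      have := hd.smul_mem (rep i₀) i₀ _ z.2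
      rwa [hrep] at this)
    obtain ⟨w, hw, hwz⟩ := (hmemS _ _).1 hm
    rw [inv_smul_smul] at hwz
    exact Subtype.ext hwz ▸ hw
  haveI : Nontrivial (W i₀) := (AddSubgroup.nontrivial_iff_ne_bot _).2 (hd.ne_bot i₀)
  have hWlt : Nat.card (W i₀) < Nat.card V := card_lt_of_ne_top fun h => by
    obtain ⟨j, hj⟩ := Fintype.exists_ne_of_one_lt_card h2 i₀
    obtain ⟨⟨x, hx⟩, hx0⟩ := AddSubgroup.ne_bot_iff_exists_ne_zero.1 (hd.ne_bot j)
    have h1 := hd.eq_of_sum_eq (f := Pi.single j x) (g := Pi.single i₀ x)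
      (fun k => by by_cases hk : k = j
                   · subst hk; simpa using hx
                   · simp [hk])
      (fun k => by by_cases hk : k = i₀
                   · subst hk; simp [h]
                   · simp [hk]) (by simp) j
    exact hx0 (Subtype.ext (by simpa [hj] using h1))
  obtain ⟨a₁, b₁, a₂, b₂, hp₁, hp₂, hne⟩ := exists_two_pairs (odd_card_subgroup hodd B)
    (hB B (W i₀) hWlt inferInstance (odd_card_subgroup hodd B) hWirr.isCR)
  have hι : Nat.card ι < Nat.card V := by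
    rw [← Nat.card_congr (Equiv.ofBijective _ hd.bij), Nat.card_pi, Nat.card_eq_fintype_card]
    refine lt_of_lt_of_le Nat.lt_two_pow_self ?_
    rw [show 2 ^ Fintype.card ι = ∏ _i : ι, 2 by simp]
    exact Finset.prod_le_prod' fun i _ => Finite.one_lt_card_iff_nontrivial.2
      ((AddSubgroup.nontrivial_iff_ne_bot _).2 (hd.ne_bot i))
  obtain ⟨T, hT⟩ := exists_subset hB hsol hodd hι
  let cv : ι → V := fun i => rep i • ((if i ∈ T then a₁ else a₂ : W i₀) : V)
  let cw : ι → V := fun i => rep i • ((if i ∈ T then b₁ else b₂ : W i₀) : V)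
  have hmem : ∀ (i : ι) (x : W i₀), rep i • (x : V) ∈ W i := fun i x => by
    have := hd.smul_mem (rep i) i₀ _ x.2
    rwa [hrep] at this
  refine ⟨∑ i, cv i, ∑ i, cw i, fun g hg1 hg2 => ?_⟩
  have e1 := hd.smul_eq_of_fixes (c := cv) (fun i => hmem i _) hg1
  have e2 := hd.smul_eq_of_fixes (c := cw) (fun i => hmem i _) hg2
  have hb : ∀ i, (rep (g • i))⁻¹ * g * rep i ∈ B := fun i => by
    rw [hBdef, mem_stabilizer_iff, mul_smul, mul_smul, hrep, inv_smul_eq_iff, hrep]
  have hmap : ∀ i, (⟨_, hb i⟩ : B) • (if i ∈ T then a₁ else a₂ : W i₀) = (if g • i ∈ T then a₁ else a₂) ∧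
      (⟨_, hb i⟩ : B) • (if i ∈ T then b₁ else b₂ : W i₀) = (if g • i ∈ T then b₁ else b₂) := by
    intro i
    constructor <;> refine Subtype.ext ?_
    · show ((rep (g • i))⁻¹ * g * rep i) • ((if i ∈ T then a₁ else a₂ : W i₀) : V) =
        ((if g • i ∈ T then a₁ else a₂ : W i₀) : V)
      rw [mul_smul, mul_smul, inv_smul_eq_iff]
      exact e1 i
    · show ((rep (g • i))⁻¹ * g * rep i) • ((if i ∈ T then b₁ else b₂ : W i₀) : V) =
        ((if g • i ∈ T then b₁ else b₂ : W i₀) : V)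
      rw [mul_smul, mul_smul, inv_smul_eq_iff]
      exact e2 i
  have hfixed : ∀ i, g • i = i := hT g fun i hi => by
    by_contra hgi
    obtain ⟨h1, h2⟩ := hmap i
    rw [if_pos hi, if_neg hgi] at h1 h2
    exact hne _ h1 h2
  intro z
  obtain ⟨x, rfl⟩ := hd.bij.2 z
  rw [Finset.smul_sum]
  refine Finset.sum_congr rfl fun i _ => ?_
  obtain ⟨h1, h2⟩ := hmap i
  have hiff : g • i ∈ T ↔ i ∈ T := by rw [hfixed i]
  simp only [hiff] at h1 h2
  have htriv : ∀ y : W i₀, (⟨_, hb i⟩ : B) • y = y := by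
    by_cases hi : i ∈ T
    · simp only [if_pos hi] at h1 h2; exact hp₁ _ h1 h2
    · simp only [if_neg hi] at h1 h2; exact hp₂ _ h1 h2
  have hx : (rep i)⁻¹ • (x i : V) ∈ W i₀ := by
    have := hd.smul_mem (rep i)⁻¹ i _ (x i).2
    rwa [inv_smul_eq_iff.2 (hrep i).symm] at this
  have h3 : ((rep (g • i))⁻¹ * g * rep i) • (rep i)⁻¹ • (x i : V) = (rep i)⁻¹ • (x i : V) :=
    congrArg Subtype.val (htriv ⟨_, hx⟩)
  rw [hfixed i, mul_smul, mul_smul, smul_inv_smul, smul_left_cancel_iff] at h3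
  exact h3

end Cfsg.Agent.OddBaseTwo
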