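import Mathlib.GroupTheory.Solvable
import Mathlib.GroupTheory.Subgroup.Centralizer
import Mathlib.GroupTheory.Commutator.Basic
import Mathlib.GroupTheory.QuotientGroup.Basic
import Mathlib.GroupTheory.Exponent
import Mathlib.GroupTheory.Perm.Cycle.Type
import Mathlib.RingTheory.IntegralDomain
import Mathlib.RingTheory.RootsOfUnity.PrimitiveRoots
import Mathlib.LinearAlgebra.Dual.Lemmas
import Mathlib.Data.SetLike.Fintype

/-!
# A completely reducible class two section over a maximal abelian normal subgroup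

* `exists_goodSection`: a normal `M` with `Z ≤ M ≤ C(Z)`, `[M,M] ≤ Z = Z(M)`, `C(M) ∩ C(Z) = Z` and
  `M/Z` completely reducible.
* `isSquare_card`, `dvd_card_sub_one`, `exists_eq_char`: nondegenerate alternating pairings of finite
  abelian groups into the units of a field.
-/

set_option autoImplicit false
set_option linter.style.haveILetI false

namespace Cfsg.Agent.OddBaseTwo

open scoped commutatorElement

universe u v

section Group

variable {G : Type u} [Group G]

/-- The properties of the section `M/Z`. -/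
structure IsGoodSection (Z M : Subgroup G) : Prop where
  normal : M.Normal
  le : Z ≤ M
  le_centralizer : M ≤ Subgroup.centralizer (Z : Set G)
  comm : ∀ x ∈ M, ∀ y ∈ M, ⁅x, y⁆ ∈ Z
  center : ∀ x ∈ M, (∀ y ∈ M, x * y = y * x) → x ∈ Z
  compl : ∀ N : Subgroup G, N.Normal → Z ≤ N → N ≤ M →
    ∃ N' : Subgroup G, N'.Normal ∧ Z ≤ N' ∧ N' ≤ M ∧ N ⊓ N' = Z ∧ N ⊔ N' = M

theorem commutator_mul_left (a b c : G) : ⁅a * b, c⁆ = a * ⁅b, c⁆ * a⁻¹ * ⁅a, c⁆ := by
  simp only [commutatorElement_def]; group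

theorem commutator_mul_right (a b c : G) : ⁅a, b * c⁆ = ⁅a, b⁆ * (b * ⁅a, c⁆ * b⁻¹) := by
  simp only [commutatorElement_def]; group

theorem sup_inf_of_le {L M N : Subgroup G} [M.Normal] (hL : L ≤ N) (hN : N ≤ M ⊔ L) :
    N = (N ⊓ M) ⊔ L := by
  refine le_antisymm (fun x hx => ?_) (sup_le inf_le_left hL)
  obtain ⟨m, hm, l, hl, rfl⟩ := Subgroup.mem_sup_of_normal_left.1 (hN hx)
  refine Subgroup.mul_mem_sup ⟨?_, hm⟩ hl
  simpa using N.mul_mem hx (N.inv_mem (hL hl))

theorem exists_goodSection [Finite G] (hsol : Group.IsSolvable G) {Z : Subgroup G} [hZn : Z.Normal]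
    (hZ : IsMulCommutative ↥Z)
    (hmax : ∀ B : Subgroup G, B.Normal → (∀ x ∈ B, ∀ y ∈ B, x * y = y * x) → Z ≤ B → B = Z) :
    ∃ M : Subgroup G, IsGoodSection Z M ∧
      ∀ g ∈ Subgroup.centralizer (Z : Set G), (∀ y ∈ M, g * y = y * g) → g ∈ Z := by
  classical
  have hZc : ∀ a ∈ Z, ∀ b ∈ Z, a * b = b * a := fun a ha b hb =>
    congrArg Subtype.val (hZ.is_comm.comm (⟨a, ha⟩ : ↥Z) ⟨b, hb⟩)
  have hbase : IsGoodSection Z Z :=
    ⟨hZn, le_rfl, fun a ha b hb => hZc b hb a ha,
      fun x hx y hy => by rw [commutatorElement_eq_one_iff_mul_comm.2 (hZc x hx y hy)]; exact one_mem _,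
      fun x hx _ => hx, fun N hN h1 h2 => ⟨Z, hZn, le_rfl, le_rfl, by
        rw [le_antisymm h2 h1, inf_idem], by rw [le_antisymm h2 h1, sup_idem]⟩⟩
  obtain ⟨M, hM, hmaxM⟩ := (Set.toFinite {M : Subgroup G | IsGoodSection Z M}).exists_maximal
    ⟨Z, hbase⟩
  refine ⟨M, hM, fun g hg hgc => ?_⟩
  haveI := hM.normal
  set D := Subgroup.centralizer (Z : Set G) ⊓ Subgroup.centralizer (M : Set G) with hD
  have hgD : g ∈ D := ⟨hg, fun y hy => (hgc y hy).symm⟩
  by_contra hgZ
  have hZD : Z ≤ D := fun z hz => ⟨fun b hb => hZc b hb z hz,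
    fun y hy => (hM.le_centralizer hy z hz).symm⟩
  obtain ⟨L, ⟨hLn, hZL, hLD⟩, hmin⟩ := (Set.toFinite
    {B : Subgroup G | B.Normal ∧ Z < B ∧ B ≤ D}).exists_minimal
      ⟨D, inferInstance, lt_of_le_not_ge hZD fun h => hgZ (h hgD), le_rfl⟩
  haveI := hLn
  have hminL : ∀ B : Subgroup G, B.Normal → Z ≤ B → B ≤ L → B = Z ∨ B = L := by
    intro B hB h1 h2
    rcases h1.lt_or_eq with h | h
    · exact Or.inr (le_antisymm h2 (hmin ⟨hB, h, h2.trans hLD⟩ h2))
    · exact Or.inl h.symm
  have hLC : L ≤ Subgroup.centralizer (Z : Set G) := hLD.trans inf_le_left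
  have hLM : ∀ l ∈ L, ∀ y ∈ M, l * y = y * l := fun l hl y hy => ((hLD hl).2 y hy).symm
  -- `L / Z` is abelian
  have hLcomm : ∀ x ∈ L, ∀ y ∈ L, ⁅x, y⁆ ∈ Z := by
    rcases hminL (⁅L, L⁆ ⊔ Z) inferInstance le_sup_right
        (sup_le (Subgroup.commutator_le_left L L) hZL.le) with h | h
    · intro x hx y hy
      rw [← h]
      exact Subgroup.mem_sup_left (Subgroup.commutator_mem_commutator hx hy)
    · exfalso
      have hperf : L.map (QuotientGroup.mk' Z) ≤
          ⁅L.map (QuotientGroup.mk' Z), L.map (QuotientGroup.mk' Z)⁆ := by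
        conv_lhs => rw [← h]
        rw [Subgroup.map_sup, QuotientGroup.map_mk'_self, sup_bot_eq, Subgroup.map_commutator]
      haveI := hsol
      obtain ⟨k, hk⟩ := (inferInstance : Group.IsSolvable (G ⧸ Z)).solvable
      have hall : ∀ k, L.map (QuotientGroup.mk' Z) ≤ derivedSeries (G ⧸ Z) k := by
        intro k
        induction k with
        | zero => exact le_top
        | succ k ih => exact hperf.trans (Subgroup.commutator_mono ih ih)
      have h' := hall k
      rw [hk, le_bot_iff, Subgroup.map_eq_bot_iff, QuotientGroup.ker_mk'] at h'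
      exact hZL.not_ge h'
  have hcentL : ∀ x ∈ L, (∀ y ∈ L, x * y = y * x) → x ∈ Z := fun x hx hxc => by
    rw [← hmax (L ⊓ Subgroup.centralizer (L : Set G)) inferInstance
      (fun a ha b hb => hb.2 a ha.1) (le_inf hZL.le fun z hz y hy => (hLC hy z hz).symm)]
    exact ⟨hx, fun y hy => (hxc y hy).symm⟩
  have hML : ∀ x, x ∈ L → x ∈ M → x ∈ Z := fun x hxL hxM => hM.center x hxM (hLM x hxL)
  have hgood : IsGoodSection Z (M ⊔ L) := by
    refine ⟨inferInstance, hM.le.trans le_sup_left, sup_le hM.le_centralizer hLC, ?_, ?_, ?_⟩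
    · intro x hx y hy
      obtain ⟨m, hm, l, hl, rfl⟩ := Subgroup.mem_sup_of_normal_left.1 hx
      obtain ⟨m', hm', l', hl', rfl⟩ := Subgroup.mem_sup_of_normal_left.1 hy
      have e1 : ⁅l, m'⁆ = 1 := commutatorElement_eq_one_iff_mul_comm.2 (hLM l hl m' hm')
      have e2 : ⁅m, l'⁆ = 1 := commutatorElement_eq_one_iff_mul_comm.2 (hLM l' hl' m hm).symm
      rw [commutator_mul_left, commutator_mul_right, commutator_mul_right, e1, e2, one_mul,
        mul_one, mul_inv_cancel, mul_one]
      exact Z.mul_mem (hZn.conj_mem _ (hZn.conj_mem _ (hLcomm l hl l' hl') m') m) (hM.comm m hm m' hm')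
    · intro x hx hxc
      obtain ⟨m, hm, l, hl, rfl⟩ := Subgroup.mem_sup_of_normal_left.1 hx
      have hmZ : m ∈ Z := hM.center m hm fun y hy => by
        have h := hxc y (Subgroup.mem_sup_left hy)
        rw [mul_assoc, hLM l hl y hy, ← mul_assoc, ← mul_assoc] at h
        exact mul_right_cancel h
      refine Z.mul_mem hmZ (hcentL l hl fun y hy => ?_)
      have h := hxc y (Subgroup.mem_sup_right hy)
      rw [← mul_assoc, hLM y hy m hm, mul_assoc, mul_assoc] at h
      exact mul_left_cancel h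
    · intro N hN h1 h2
      haveI := hN
      rcases hminL (N ⊓ L) inferInstance (le_inf h1 hZL.le) inf_le_right with hNL | hNL
      · obtain ⟨N', hN', g1, g2, g3, g4⟩ := hM.compl ((N ⊔ L) ⊓ M) inferInstance
          (le_inf (h1.trans le_sup_left) hM.le) inf_le_right
        haveI := hN'
        refine ⟨N' ⊔ L, inferInstance, g1.trans le_sup_left, sup_le (g2.trans le_sup_left) le_sup_right,
          le_antisymm (fun x hx => ?_) (le_inf h1 (g1.trans le_sup_left)), ?_⟩
        · obtain ⟨y, hy, l, hl, rfl⟩ := Subgroup.mem_sup_of_normal_left.1 hx.2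
          have hyZ : y ∈ Z := g3 ▸ (show y ∈ (N ⊔ L) ⊓ M ⊓ N' from ⟨⟨by
            have := (N ⊔ L).mul_mem (Subgroup.mem_sup_left hx.1) (Subgroup.mem_sup_right (L.inv_mem hl))
            simpa using this, g2 hy⟩, hy⟩)
          have hlN : l ∈ N := by
            have := N.mul_mem (N.inv_mem (h1 hyZ)) hx.1
            simpa using this
          exact Z.mul_mem hyZ (hNL ▸ (show l ∈ N ⊓ L from ⟨hlN, hl⟩))
        · refine le_antisymm (sup_le h2 (sup_le (g2.trans le_sup_left) le_sup_right)) (sup_le ?_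
            (le_sup_right.trans le_sup_right))
          rw [← g4]
          exact sup_le (inf_le_left.trans (sup_le le_sup_left (le_sup_right.trans le_sup_right)))
            (le_sup_left.trans le_sup_right)
      · have hLN : L ≤ N := inf_eq_right.1 hNL
        obtain ⟨N', hN', g1, g2, g3, g4⟩ := hM.compl (N ⊓ M) inferInstance (le_inf h1 hM.le) inf_le_right
        refine ⟨N', hN', g1, g2.trans le_sup_left, ?_, ?_⟩
        · rw [← g3, inf_assoc, inf_eq_right.2 g2]
        · refine le_antisymm (sup_le h2 (g2.trans le_sup_left)) (sup_le ?_ (hLN.trans le_sup_left))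
          rw [← g4]
          exact sup_le (inf_le_left.trans le_sup_left) le_sup_right
  have hLleM : L ≤ M := le_sup_right.trans (hmaxM hgood le_sup_left)
  exact hZL.not_ge fun x hx => hML x hx (hLleM hx)

end Group

/-! ## Pairings -/

section Pairing

variable {W : Type u} [CommGroup W] [Finite W] {K : Type v} [Field K] (f : W →* W →* Kˣ)
  (halt : ∀ x : W, f x x = 1)

omit [Finite W] in
include halt in
theorem pairing_skew (x y : W) : f x y * f y x = 1 := by
  have h := halt (x * y)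
  simp only [map_mul, MonoidHom.mul_apply] at h
  rw [halt x, halt y, one_mul, mul_one, mul_comm] at h
  exact h

include halt in
theorem isSquare_card_aux : ∀ S : Subgroup W,
    (∀ x ∈ S, (∀ y ∈ S, f x y = 1) → x = 1) → IsSquare (Nat.card S) := by
  intro S
  induction S using WellFoundedLT.induction with
  | ind S ih =>
  intro hS
  by_cases hbot : S = ⊥
  · rw [hbot, Subgroup.card_bot]; exact IsSquare.one
  obtain ⟨v, hv⟩ := Monoid.exists_orderOf_eq_exponent (G := S) Monoid.ExponentExists.of_finite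
  set n := Monoid.exponent S with hn
  have hn0 : n ≠ 0 := Monoid.exponent_ne_zero_of_finite
  have hpow : ∀ x : S, (x : W) ^ n = 1 := fun x => congrArg Subtype.val (Monoid.pow_exponent_eq_one x)
  let χ : S →* Kˣ := (f (v : W)).comp S.subtype
  haveI : Finite χ.range := Finite.of_surjective _ χ.rangeRestrict_surjective
  haveI : IsCyclic χ.range := isCyclic_of_injective_ringHom ((Units.coeHom K).comp χ.range.subtype)
    (Units.val_injective.comp Subtype.val_injective)
  obtain ⟨⟨ζ, u, hu⟩, hζ⟩ := IsCyclic.exists_zpow_surjective (G := χ.range)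
  have hζpow : ∀ y : S, ∃ i : ℤ, ζ ^ i = f (v : W) (y : W) := fun y => by
    obtain ⟨i, hi⟩ := hζ ⟨χ y, y, rfl⟩
    exact ⟨i, congrArg Subtype.val hi⟩
  change f (v : W) (u : W) = ζ at hu
  have hord : orderOf ζ = n := by
    refine Nat.dvd_antisymm (orderOf_dvd_of_pow_eq_one (by rw [← hu, ← map_pow, hpow, map_one])) ?_
    rw [← hv]
    refine orderOf_dvd_of_pow_eq_one (Subtype.ext ?_)
    refine hS _ (S.pow_mem v.2 _) fun y hy => ?_
    obtain ⟨i, hi⟩ := hζpow ⟨y, hy⟩
    rw [SubmonoidClass.coe_pow, map_pow, MonoidHom.pow_apply, ← hi, ← zpow_natCast, ← zpow_mul, mul_comm, zpow_mul,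
      zpow_natCast, pow_orderOf_eq_one, one_zpow]
  haveI : NeZero n := ⟨hn0⟩
  have hroots : ∀ c : Kˣ, c ^ n = 1 → c ∈ Subgroup.zpowers ζ := by
    intro c hc
    have h1 : Subgroup.zpowers ζ = rootsOfUnity n K := Subgroup.eq_of_le_of_card_ge
      (Subgroup.zpowers_le.mpr ((mem_rootsOfUnity n _).mpr (by rw [← hord]; exact pow_orderOf_eq_one ζ)))
      (by rw [Nat.card_zpowers, hord]; exact card_rootsOfUnity K n)
    rw [h1]
    exact (mem_rootsOfUnity n _).mpr hc
  let Ψ : S →* Subgroup.zpowers ζ × Subgroup.zpowers ζ :=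
    { toFun := fun s => (⟨f (v : W) (s : W), hroots _ (by rw [← map_pow, hpow, map_one])⟩,
        ⟨f (u : W) (s : W), hroots _ (by rw [← map_pow, hpow, map_one])⟩)
      map_one' := Prod.ext (Subtype.ext (map_one _)) (Subtype.ext (map_one _))
      map_mul' := fun a b => Prod.ext (Subtype.ext (map_mul _ _ _)) (Subtype.ext (map_mul _ _ _)) }
  have huv : f (u : W) (v : W) = ζ⁻¹ := by
    rw [← hu]
    exact eq_inv_of_mul_eq_one_left (pairing_skew f halt _ _)
  have hsurj : Function.Surjective Ψ := by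
    rintro ⟨⟨a, ha⟩, ⟨b, hb⟩⟩
    obtain ⟨i, rfl⟩ := ha
    obtain ⟨j, rfl⟩ := hb
    refine ⟨u ^ i * v ^ (-j), Prod.ext (Subtype.ext ?_) (Subtype.ext ?_)⟩
    · show f (v : W) ((u : W) ^ i * (v : W) ^ (-j)) = ζ ^ i
      rw [map_mul, map_zpow, map_zpow, halt, hu, one_zpow, mul_one]
    · show f (u : W) ((u : W) ^ i * (v : W) ^ (-j)) = ζ ^ j
      rw [map_mul, map_zpow, map_zpow, halt, huv, one_zpow, one_mul, inv_zpow, zpow_neg, inv_inv]
  have hcard : Nat.card Ψ.ker * (n * n) = Nat.card S := by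
    have h := Subgroup.card_mul_index Ψ.ker
    rwa [Subgroup.index_ker, MonoidHom.range_eq_top.2 hsurj, Subgroup.card_top, Nat.card_prod,
      Nat.card_zpowers, hord] at h
  set T := Ψ.ker.map S.subtype with hT
  have hTc : Nat.card T = Nat.card Ψ.ker :=
    (Nat.card_congr (Ψ.ker.equivMapOfInjective _ S.subtype_injective).toEquiv).symm
  have hker : ∀ t ∈ T, f (v : W) t = 1 ∧ f (u : W) t = 1 := by
    rintro _ ⟨s, hs, rfl⟩
    have h := MonoidHom.mem_ker.1 hs
    exact ⟨congrArg (fun p => (p.1 : Kˣ)) h, congrArg (fun p => (p.2 : Kˣ)) h⟩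
  have hTS : T ≤ S := by rintro _ ⟨s, -, rfl⟩; exact s.2
  have hn1 : 1 < n := by
    rcases lt_trichotomy n 1 with h | h | h
    · omega
    · exfalso
      refine hbot ((Subgroup.eq_bot_iff_forall S).2 fun x hx => ?_)
      have := hpow ⟨x, hx⟩
      rwa [h, pow_one] at this
    · exact h
  obtain ⟨k, hk⟩ := ih T (lt_of_le_of_ne hTS fun h => by
    have h1 : Nat.card T = Nat.card S := by rw [h]
    have h2 : Nat.card Ψ.ker < Nat.card Ψ.ker * (n * n) :=
      lt_mul_of_one_lt_right Nat.card_pos (one_lt_mul'' hn1 hn1)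
    rw [hcard, ← hTc, h1] at h2
    exact lt_irrefl _ h2) fun x hx hxT => by
      refine hS x (hTS hx) fun y hy => ?_
      obtain ⟨hxv, hxu⟩ := hker x hx
      obtain ⟨⟨i, hi⟩, ⟨j, hj⟩⟩ := (⟨(Ψ ⟨y, hy⟩).1.2, (Ψ ⟨y, hy⟩).2.2⟩ :
        _ ∈ Subgroup.zpowers ζ ∧ _ ∈ Subgroup.zpowers ζ)
      set s : S := ⟨y, hy⟩ * (u ^ i * v ^ (-j))⁻¹
      have hsker : s ∈ Ψ.ker := by
        rw [MonoidHom.mem_ker, map_mul, map_inv, mul_inv_eq_one]
        refine Prod.ext (Subtype.ext ?_) (Subtype.ext ?_)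
        · show _ = f (v : W) ((u : W) ^ i * (v : W) ^ (-j))
          rw [map_mul, map_zpow, map_zpow, halt, hu, one_zpow, mul_one]
          exact hi.symm
        · show _ = f (u : W) ((u : W) ^ i * (v : W) ^ (-j))
          rw [map_mul, map_zpow, map_zpow, halt, huv, one_zpow, one_mul, inv_zpow, zpow_neg, inv_inv]
          exact hj.symm
      have h1 : f x ((s : S) : W) = 1 := hxT _ ⟨s, hsker, rfl⟩
      have h2 : f x (v : W) = 1 := by
        have := pairing_skew f halt (v : W) x
        rwa [hxv, one_mul] at this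
      have h3 : f x (u : W) = 1 := by
        have := pairing_skew f halt (u : W) x
        rwa [hxu, one_mul] at this
      have h4 : y = ((s : S) : W) * ((u : W) ^ i * (v : W) ^ (-j)) := by
        show y = y * ((u : W) ^ i * (v : W) ^ (-j))⁻¹ * _
        rw [inv_mul_cancel_right]
      rw [h4, map_mul, map_mul, map_zpow, map_zpow, h1, h2, h3, one_zpow, one_zpow, one_mul, one_mul]
  exact ⟨k * n, by rw [← hcard, ← hTc, hk]; ring⟩

include halt in
theorem isSquare_card (hnd : ∀ x : W, (∀ y, f x y = 1) → x = 1) : IsSquare (Nat.card W) := by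
  have h := isSquare_card_aux f halt ⊤ fun x _ hx => hnd x fun y => hx y (Subgroup.mem_top y)
  rwa [Subgroup.card_top] at h

theorem dvd_card_sub_one [Finite K] (hnd : ∀ x : W, (∀ y, f x y = 1) → x = 1) {r : ℕ} (hr : r.Prime)
    (hrW : r ∣ Nat.card W) : r ∣ Nat.card K - 1 := by
  have := Fact.mk hr
  obtain ⟨x, hx⟩ := exists_prime_orderOf_dvd_card' r hrW
  obtain ⟨y, hy⟩ : ∃ y, f x y ≠ 1 := by
    by_contra! h
    rw [hnd x h, orderOf_one] at hx
    exact hr.ne_one hx.symm
  have h1 : orderOf (f x y) = r := orderOf_eq_prime (by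
    rw [← MonoidHom.pow_apply, ← map_pow, ← hx, pow_orderOf_eq_one, map_one, MonoidHom.one_apply]) hy
  rw [← Nat.card_units K, ← h1]
  exact orderOf_dvd_natCard _

/-- Every character is given by the pairing. -/
theorem exists_eq_char (hnd : ∀ x : W, (∀ y, f x y = 1) → x = 1) (χ : W →* Kˣ) :
    ∃ x : W, f x = χ := by
  have hinj : Function.Injective f := (injective_iff_map_eq_one f).2 fun x hx =>
    hnd x fun y => DFunLike.congr_fun hx y
  by_contra! hall
  haveI := Fintype.ofFinite W
  let F : Option W → W →* K := fun o => o.elim ((Units.coeHom K).comp χ) fun x => (Units.coeHom K).comp (f x)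
  have hF : Function.Injective F := by
    have h0 : ∀ a b : W →* Kˣ, (Units.coeHom K).comp a = (Units.coeHom K).comp b → a = b :=
      fun a b h => MonoidHom.ext fun y => Units.ext (DFunLike.congr_fun h y)
    rintro (_ | a) (_ | b) h
    · rfl
    · exact absurd (h0 _ _ h).symm (hall b)
    · exact absurd (h0 _ _ h) (hall a)
    · rw [hinj (h0 _ _ h)]
  have hli := (linearIndependent_monoidHom W K).comp F hF
  have := hli.fintype_card_le_finrank
  rw [Fintype.card_option, Module.finrank_fintype_fun_eq_card] at this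
  omega

end Pairing

end Cfsg.Agent.OddBaseTwo
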