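import Cfsg.Agent.Lib.OddBaseTwo.Basic
import Cfsg.Agent.Lib.OddBaseTwo.Section
import Cfsg.Agent.Lib.SolvableTransitive.Pairing
import Mathlib.GroupTheory.Subgroup.Centralizer
import Mathlib.LinearAlgebra.FreeModule.Finite.Matrix

/-!
# The structure of a primitive solvable linear group

`PrimData`: scalars `Z` of a `K`-space `V`, and a completely reducible class two section `M/Z`.

* `card_W_le`: `|M/Z| ≤ (dim V)^2`; `isSquare_W`; `dvd_W`: primes of `|M/Z|` divide `|K| - 1`.
* `isCR_act`: `M/Z` is completely reducible under the group.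
* `mem_M_of_conj_eq_one`: what centralises `Z` and `M/Z` lies in `M`.
-/

set_option autoImplicit false
set_option linter.unusedSectionVars false
set_option linter.style.haveILetI false

namespace Cfsg.Agent.OddBaseTwo

open scoped commutatorElement
open SolvableTransitive

universe u v w

/-- Scalars and a class two section of a linear group. -/
structure PrimData (A : Type u) [Group A] (K : Type w) [Field K] (V : Type v) [AddCommGroup V]
    [Module K V] [DistribMulAction A V] where
  /-- The scalar subgroup. -/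
  Z : Subgroup A
  /-- The class two subgroup. -/
  M : Subgroup A
  /-- The scalars. -/
  χ : ↥Z →* Kˣ
  normalZ : Z.Normal
  scalar : ∀ (a : ↥Z) (x : V), (a : A) • x = ((χ a : Kˣ) : K) • x
  linear : ∀ g ∈ Subgroup.centralizer (Z : Set A), ∀ (c : K) (x : V), g • c • x = c • g • x
  good : IsGoodSection Z M
  cent : ∀ g ∈ Subgroup.centralizer (Z : Set A), (∀ y ∈ M, g * y = y * g) → g ∈ Z

namespace PrimData

variable {A : Type u} [Group A] {K : Type w} [Field K] {V : Type v} [AddCommGroup V] [Module K V]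
  [DistribMulAction A V] (P : PrimData A K V)

instance normal_Z : P.Z.Normal := P.normalZ

instance normal_M : P.M.Normal := P.good.normal

/-- The centraliser of the scalars. -/
abbrev C : Subgroup A := Subgroup.centralizer (P.Z : Set A)

/-- The section `M/Z`. -/
abbrev W : Type u := ↥P.M ⧸ P.Z.subgroupOf P.M

theorem commute_Z {a g : A} (ha : a ∈ P.Z) (hg : g ∈ P.C) : g * a = a * g := (hg a ha).symm

theorem hcen : ∀ a ∈ P.Z, ∀ x ∈ P.M, x * a = a * x :=
  fun _ ha _ hx => P.commute_Z ha (P.good.le_centralizer hx)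

theorem χ_injective [FaithfulSMul A V] : Function.Injective P.χ := fun a b h =>
  Subtype.ext (eq_of_smul_eq_smul fun x : V => by rw [P.scalar, P.scalar, h])

instance commGroupW : CommGroup P.W :=
  { (inferInstance : Group P.W) with
    mul_comm := fun w w' => by
      obtain ⟨x, rfl⟩ := QuotientGroup.mk_surjective w
      obtain ⟨y, rfl⟩ := QuotientGroup.mk_surjective w'
      refine commutatorElement_eq_one_iff_mul_comm.mp ?_
      show ⁅QuotientGroup.mk' (P.Z.subgroupOf P.M) x, QuotientGroup.mk' (P.Z.subgroupOf P.M) y⁆ = 1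
      rw [← map_commutatorElement]
      exact (QuotientGroup.eq_one_iff _).mpr (Subgroup.mem_subgroupOf.mpr (P.good.comm _ x.2 _ y.2)) }

/-- The commutator pairing. -/
def form : P.W →* P.W →* Kˣ := commPairing P.Z P.M P.χ P.good.comm P.hcen

theorem form_mk (x y : ↥P.M) : P.form (QuotientGroup.mk x) (QuotientGroup.mk y) =
    P.χ ⟨⁅(x : A), (y : A)⁆, P.good.comm _ x.2 _ y.2⟩ := rfl

theorem halt : ∀ w : P.W, P.form w w = 1 := by
  intro w
  obtain ⟨x, rfl⟩ := QuotientGroup.mk_surjective w
  rw [P.form_mk, ← map_one P.χ]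
  exact congrArg P.χ (Subtype.ext (commutatorElement_self _))

theorem nondeg [FaithfulSMul A V] : ∀ w : P.W, (∀ w', P.form w w' = 1) → w = 1 := by
  intro w h
  obtain ⟨x, rfl⟩ := QuotientGroup.mk_surjective w
  rw [QuotientGroup.eq_one_iff, Subgroup.mem_subgroupOf]
  refine P.good.center _ x.2 fun y hy => commutatorElement_eq_one_iff_mul_comm.mp ?_
  have h1 := h (QuotientGroup.mk ⟨y, hy⟩)
  rw [P.form_mk, ← map_one P.χ] at h1
  exact congrArg Subtype.val (P.χ_injective h1)

/-- Conjugation on the section. -/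
def conj : A →* MulAut P.W where
  toFun g := QuotientGroup.congr _ _ (MulAut.conjNormal g) (by
    ext x
    simp only [Subgroup.mem_map, Subgroup.mem_subgroupOf]
    constructor
    · rintro ⟨y, hy, rfl⟩
      exact P.normalZ.conj_mem _ hy g
    · intro hx
      refine ⟨(MulAut.conjNormal g).symm x, ?_, (MulAut.conjNormal g).apply_symm_apply x⟩
      rw [MulAut.conjNormal_symm_apply]
      simpa using P.normalZ.conj_mem _ hx g⁻¹)
  map_one' := MulEquiv.ext fun w => by
    obtain ⟨x, rfl⟩ := QuotientGroup.mk_surjective w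
    exact congrArg QuotientGroup.mk (DFunLike.congr_fun (map_one (MulAut.conjNormal (H := P.M))) x)
  map_mul' g h := MulEquiv.ext fun w => by
    obtain ⟨x, rfl⟩ := QuotientGroup.mk_surjective w
    exact congrArg QuotientGroup.mk (DFunLike.congr_fun (map_mul (MulAut.conjNormal (H := P.M)) g h) x)

theorem conj_mk (g : A) (x : ↥P.M) :
    P.conj g (QuotientGroup.mk x) = QuotientGroup.mk (MulAut.conjNormal g x) := rfl

theorem form_conj {g : A} (hg : g ∈ P.C) (w w' : P.W) :
    P.form (P.conj g w) (P.conj g w') = P.form w w' := by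
  obtain ⟨x, rfl⟩ := QuotientGroup.mk_surjective w
  obtain ⟨y, rfl⟩ := QuotientGroup.mk_surjective w'
  rw [P.conj_mk, P.conj_mk, P.form_mk, P.form_mk]
  refine congrArg P.χ (Subtype.ext ?_)
  show ⁅((MulAut.conjNormal g x : ↥P.M) : A), ((MulAut.conjNormal g y : ↥P.M) : A)⁆ = ⁅(x : A), (y : A)⁆
  rw [MulAut.conjNormal_apply, MulAut.conjNormal_apply]
  calc ⁅g * x * g⁻¹, g * y * g⁻¹⁆ = g * ⁅(x : A), (y : A)⁆ * g⁻¹ := by
        simp only [commutatorElement_def]; group
    _ = _ := by rw [P.commute_Z (P.good.comm _ x.2 _ y.2) hg, mul_inv_cancel_right]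

theorem conj_eq_one_of_mem {g : A} (hg : g ∈ P.M) : P.conj g = 1 := by
  refine MulEquiv.ext fun w => ?_
  obtain ⟨x, rfl⟩ := QuotientGroup.mk_surjective w
  rw [P.conj_mk, MulAut.one_apply]
  refine QuotientGroup.eq.2 (Subgroup.mem_subgroupOf.2 ?_)
  rw [Subgroup.coe_mul, Subgroup.coe_inv, MulAut.conjNormal_apply,
    show (g * (x : A) * g⁻¹)⁻¹ * x = ⁅g, (x : A)⁻¹⁆ by simp only [commutatorElement_def]; group]
  exact P.good.comm g hg _ (inv_mem x.2)

theorem mem_M_of_conj_eq_one [Finite A] [FaithfulSMul A V] {g : A} (hg : g ∈ P.C)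
    (h : P.conj g = 1) : g ∈ P.M := by
  have hmem : ∀ y ∈ P.M, ⁅g, y⁆ ∈ P.Z := by
    intro y hy
    have h1 := DFunLike.congr_fun h (QuotientGroup.mk ⟨y, hy⟩)
    rw [P.conj_mk, MulAut.one_apply, eq_comm, QuotientGroup.eq, Subgroup.mem_subgroupOf] at h1
    have h2 := P.normalZ.conj_mem _ h1 y
    simp only [Subgroup.coe_mul, Subgroup.coe_inv, MulAut.conjNormal_apply] at h2
    rwa [show y * (y⁻¹ * (g * y * g⁻¹)) * y⁻¹ = ⁅g, y⁆ by rw [commutatorElement_def]; group] at h2
  let φ : ↥P.M →* Kˣ :=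
    { toFun := fun y => P.χ ⟨⁅g, (y : A)⁆, hmem y y.2⟩
      map_one' := by
        rw [← map_one P.χ]
        exact congrArg P.χ (Subtype.ext (commutatorElement_one_right _))
      map_mul' := fun a b => by
        rw [← map_mul]
        refine congrArg P.χ (Subtype.ext ?_)
        show ⁅g, (a : A) * b⁆ = ⁅g, (a : A)⁆ * ⁅g, (b : A)⁆
        rw [commutator_mul_right, P.hcen _ (hmem b b.2) _ a.2, mul_inv_cancel_right] }
  let ψ : P.W →* Kˣ := QuotientGroup.lift _ φ fun z hz => by
    rw [MonoidHom.mem_ker, ← map_one P.χ]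
    exact congrArg P.χ (Subtype.ext (commutatorElement_eq_one_iff_mul_comm.2
      (P.commute_Z (Subgroup.mem_subgroupOf.1 hz) hg)))
  obtain ⟨w, hw⟩ := exists_eq_char P.form P.nondeg ψ
  obtain ⟨x, rfl⟩ := QuotientGroup.mk_surjective w
  have hx : ((x : A))⁻¹ * g ∈ P.Z := by
    refine P.cent _ (P.C.mul_mem (inv_mem (P.good.le_centralizer x.2)) hg) fun y hy => ?_
    have h1 : P.χ ⟨⁅(x : A), y⁆, P.good.comm _ x.2 _ hy⟩ = P.χ ⟨⁅g, y⁆, hmem y hy⟩ :=
      DFunLike.congr_fun hw (QuotientGroup.mk (⟨y, hy⟩ : ↥P.M) : P.W)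
    have h2 : ⁅(x : A), y⁆ = ⁅g, y⁆ := congrArg Subtype.val (P.χ_injective h1)
    rw [commutatorElement_def, commutatorElement_def] at h2
    have h3 : (x : A) * y * (x : A)⁻¹ = g * y * g⁻¹ := mul_right_cancel h2
    calc (x : A)⁻¹ * g * y = (x : A)⁻¹ * (g * y * g⁻¹) * g := by group
      _ = y * ((x : A)⁻¹ * g) := by rw [← h3]; group
  have := P.M.mul_mem x.2 (P.good.le hx)
  rwa [mul_inv_cancel_left] at this

/-! ### The size of the section -/

theorem odd_card_W [Finite A] (hodd : Odd (Nat.card A)) : Odd (Nat.card P.W) :=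
  ((odd_card_subgroup hodd P.M).of_dvd_nat (Subgroup.index_dvd_card _))

theorem isSquare_W [Finite A] [FaithfulSMul A V] : IsSquare (Nat.card P.W) :=
  isSquare_card P.form P.halt P.nondeg

theorem dvd_W [Finite A] [Finite K] [FaithfulSMul A V] {r : ℕ} (hr : r.Prime)
    (hrW : r ∣ Nat.card P.W) : r ∣ Nat.card K - 1 :=
  dvd_card_sub_one P.form P.nondeg hr hrW

theorem card_M [Finite A] : Nat.card P.M = Nat.card P.W * Nat.card P.Z := by
  rw [Subgroup.card_eq_card_quotient_mul_card_subgroup (P.Z.subgroupOf P.M),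
    Nat.card_congr (Subgroup.subgroupOfEquivOfLe P.good.le).toEquiv]

theorem one_lt_W [Finite A] (hne : P.C ≠ P.Z) : 1 < Nat.card P.W := by
  refine lt_of_le_of_ne Nat.card_pos fun h => hne (le_antisymm (fun g hg => ?_)
    (P.good.le.trans P.good.le_centralizer))
  refine P.cent g hg fun y hy => P.commute_Z ?_ hg
  haveI := (Nat.card_eq_one_iff_unique.1 h.symm).1
  exact Subgroup.mem_subgroupOf.1
    ((QuotientGroup.eq_one_iff (⟨y, hy⟩ : ↥P.M)).1 (Subsingleton.elim _ _))

/-- An element of the centraliser of the scalars, as a linear map. -/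
def op {g : A} (hg : g ∈ P.C) : Module.End K V where
  toFun x := g • x
  map_add' := smul_add g
  map_smul' c x := P.linear g hg c x

theorem op_apply {g : A} (hg : g ∈ P.C) (x : V) : P.op hg x = g • x := rfl

theorem smul_smul_eq {a b : A} (ha : a ∈ P.M) (hb : b ∈ P.M) (x : V) :
    a • b • x = ((P.form (QuotientGroup.mk ⟨a, ha⟩) (QuotientGroup.mk ⟨b, hb⟩) : Kˣ) : K) • b • a • x := by
  rw [P.form_mk, ← P.scalar, ← mul_smul, ← mul_smul, ← mul_smul]
  congr 1
  simp only [commutatorElement_def]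
  group

theorem card_W_le [Finite A] [Finite V] [Nontrivial V] [FaithfulSMul A V] :
    Nat.card P.W ≤ Module.finrank K V * Module.finrank K V := by
  haveI : Module.Finite K V := Module.Finite.of_finite
  haveI := Fintype.ofFinite P.W
  let L : P.W → Module.End K V := fun w =>
    P.op (P.good.le_centralizer (QuotientGroup.mk_surjective w).choose.2)
  have hli : LinearIndependent K L := by
    refine linearIndependent_of_twisted L (fun w => MulAction.injective (β := V) _)
      (fun y i => ((P.form y i : Kˣ) : K)) (fun y i => LinearMap.ext fun x => ?_) (fun i i' hne => ?_)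
    · have h := P.smul_smul_eq (QuotientGroup.mk_surjective y).choose.2
        (QuotientGroup.mk_surjective i).choose.2 x
      rw [(QuotientGroup.mk_surjective y).choose_spec, (QuotientGroup.mk_surjective i).choose_spec] at h
      exact h
    · by_contra! hall
      refine hne (mul_inv_eq_one.mp (P.nondeg _ fun y => ?_))
      have h : P.form y (i * i'⁻¹) = 1 := by
        rw [map_mul, map_inv, Units.ext (hall y), mul_inv_cancel]
      have hs := pairing_skew P.form P.halt y (i * i'⁻¹)
      rwa [h, one_mul] at hs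
  have h := hli.fintype_card_le_finrank
  rwa [Module.finrank_linearMap, ← Nat.card_eq_fintype_card] at h

/-! ### The group acting on the section -/

/-- Conjugation on the section, written additively. -/
@[reducible] def act : DistribMulAction A (Additive P.W) where
  smul g a := Additive.ofMul (P.conj g a.toMul)
  one_smul a := by show Additive.ofMul (P.conj 1 a.toMul) = a; rw [map_one]; rfl
  mul_smul g h a := by
    show Additive.ofMul (P.conj (g * h) a.toMul) = Additive.ofMul (P.conj g (P.conj h a.toMul))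
    rw [map_mul]; rfl
  smul_zero g := by
    show Additive.ofMul (P.conj g 1) = Additive.ofMul (1 : P.W)
    rw [map_one]
  smul_add g a b := by
    show Additive.ofMul (P.conj g (a.toMul * b.toMul)) =
      Additive.ofMul (P.conj g a.toMul * P.conj g b.toMul)
    rw [map_mul]

theorem isCR_act : letI := P.act; IsCR A (Additive P.W) := by
  letI := P.act
  intro U hU
  let π := QuotientGroup.mk' (P.Z.subgroupOf P.M)
  let N : Subgroup A := ((AddSubgroup.toSubgroup' U).comap π).map P.M.subtype
  have hmem : ∀ x : ↥P.M, (x : A) ∈ N ↔ Additive.ofMul (π x) ∈ U := fun x =>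
    ⟨fun ⟨y, hy, hyx⟩ => by rw [← Subtype.ext hyx]; exact hy, fun h => ⟨x, h, rfl⟩⟩
  have hNM : N ≤ P.M := by rintro _ ⟨y, -, rfl⟩; exact y.2
  have hNn : N.Normal := ⟨fun x hx g => by
    have := hU g _ ((hmem ⟨x, hNM hx⟩).1 hx)
    exact (hmem (MulAut.conjNormal g ⟨x, hNM hx⟩)).2 this⟩
  have hZN : P.Z ≤ N := fun z hz => (hmem ⟨z, P.good.le hz⟩).2 (by
    rw [show π ⟨z, P.good.le hz⟩ = 1 from (QuotientGroup.eq_one_iff _).2 (Subgroup.mem_subgroupOf.2 hz)]
    exact U.zero_mem)
  obtain ⟨N', hN', h1, h2, h3, h4⟩ := P.good.compl N hNn hZN hNM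
  refine ⟨Subgroup.toAddSubgroup ((N'.subgroupOf P.M).map π), ?_, ?_, ?_⟩
  · rintro g a ⟨x, hx, hxa⟩
    refine ⟨MulAut.conjNormal g x, ?_, ?_⟩
    · show (MulAut.conjNormal g x : A) ∈ N'
      rw [MulAut.conjNormal_apply]
      exact hN'.conj_mem _ hx g
    · show π _ = (g • a).toMul
      rw [show (g • a).toMul = P.conj g a.toMul from rfl, ← show π x = a.toMul from hxa]
      rfl
  · refine eq_bot_iff.2 fun a ha => AddSubgroup.mem_bot.2 ?_
    obtain ⟨x, hx, hxa⟩ := ha.2
    have hxN : (x : A) ∈ N := (hmem x).2 (by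
      rw [show π x = a.toMul from hxa]
      exact ha.1)
    have hxZ : (x : A) ∈ P.Z := h3 ▸ (show (x : A) ∈ N ⊓ N' from ⟨hxN, hx⟩)
    rw [show a = Additive.ofMul (π x) from congrArg Additive.ofMul hxa.symm,
      show π x = 1 from (QuotientGroup.eq_one_iff _).2 (Subgroup.mem_subgroupOf.2 hxZ)]
    rfl
  · refine eq_top_iff.2 fun a _ => ?_
    obtain ⟨x, hx⟩ := QuotientGroup.mk_surjective a.toMul
    haveI := hNn
    obtain ⟨n, hn, n', hn', hnn⟩ := Subgroup.mem_sup_of_normal_left.1 (h4.symm ▸ x.2 : (x : A) ∈ N ⊔ N')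
    rw [show a = Additive.ofMul (π ⟨n, hNM hn⟩) + Additive.ofMul (π ⟨n', h2 hn'⟩) by
      rw [← ofMul_mul, ← map_mul]
      exact congrArg Additive.ofMul (hx.symm.trans (congrArg π (Subtype.ext hnn.symm)))]
    exact AddSubgroup.add_mem_sup ((hmem ⟨n, hNM hn⟩).1 hn) ⟨⟨n', h2 hn'⟩, hn', rfl⟩

end PrimData

end Cfsg.Agent.OddBaseTwo
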