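import Cfsg.Agent.Lib.OddBaseTwo.Structure
import Mathlib.LinearAlgebra.Eigenspace.Basic
import Mathlib.Algebra.Order.BigOperators.Ring.Finset
import Mathlib.GroupTheory.Coset.Card
import Mathlib.FieldTheory.Finiteness

/-!
# Counting the pairs of vectors with nontrivial common stabiliser

* `fixed_sq_le`, `fixed_cube_le`: sizes of fixed point groups.
* `PrimData.coset_bound`, `PrimData.coset_bound_three`: the contribution of a coset of the scalars.
* `PrimData.hasBase_of_bound`: the counting criterion.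
-/

set_option autoImplicit false
set_option linter.unusedSectionVars false
set_option linter.style.haveILetI false

namespace Cfsg.Agent.OddBaseTwo

open scoped commutatorElement

universe u v w

section General

variable {A : Type u} [Group A] {V : Type v} [AddCommGroup V] [DistribMulAction A V]

/-- The fixed points of one element. -/
def fixSub (g : A) : AddSubgroup V where
  carrier := {x | g • x = x}
  zero_mem' := smul_zero g
  add_mem' {x y} hx hy := by
    show g • (x + y) = x + y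
    rw [smul_add, show g • x = x from hx, show g • y = y from hy]
  neg_mem' {x} hx := by
    show g • -x = -x
    rw [smul_neg, show g • x = x from hx]

theorem mem_fixSub {g : A} {x : V} : x ∈ fixSub g ↔ g • x = x := Iff.rfl

theorem card_fix_conj [Finite V] (g x : A) :
    Nat.card (fixSub (V := V) (x * g * x⁻¹)) = Nat.card (fixSub (V := V) g) := by
  refine Nat.card_congr ((MulAction.toPerm x⁻¹).subtypeEquiv fun v => ?_)
  show (x * g * x⁻¹) • v = v ↔ g • x⁻¹ • v = x⁻¹ • v
  rw [mul_smul, mul_smul, ← eq_inv_smul_iff]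

theorem card_mul_card_le [Finite V] (U U' : AddSubgroup V) :
    Nat.card U * Nat.card U' ≤ Nat.card ↥(U ⊓ U') * Nat.card V := by
  let φ : U →+ V ⧸ U' := (QuotientAddGroup.mk' U').comp U.subtype
  have h1 : Nat.card φ.ker * Nat.card φ.range = Nat.card U := by
    rw [← AddSubgroup.index_ker, AddSubgroup.card_mul_index]
  have h2 : Nat.card φ.ker = Nat.card ↥(U ⊓ U') := Nat.card_congr
    { toFun := fun x => ⟨(x.1 : V), x.1.2, (QuotientAddGroup.eq_zero_iff _).1 x.2⟩
      invFun := fun y => ⟨⟨y.1, y.2.1⟩, (QuotientAddGroup.eq_zero_iff _).2 y.2.2⟩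
      left_inv := fun x => rfl
      right_inv := fun y => rfl }
  have h3 : Nat.card φ.range ≤ Nat.card (V ⧸ U') := AddSubgroup.card_le_card_addGroup _
  rw [← h1, h2, AddSubgroup.card_eq_card_quotient_mul_card_addSubgroup U', mul_assoc]
  exact Nat.mul_le_mul_left _ (Nat.mul_le_mul_right _ h3)

/-- Pairs fixed by some nontrivial element cover everything when there is no base. -/
theorem sum_fix_ge [Finite A] [Finite V] [FaithfulSMul A V] [DecidableEq A] [Fintype A]
    (hno : ¬ HasBase A V) :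
    Nat.card V ^ 2 - 1 ≤
      ∑ g ∈ (Finset.univ.erase (1 : A)), (Nat.card (fixSub (V := V) g) ^ 2 - 1) := by
  classical
  haveI := Fintype.ofFinite V
  let S : A → Finset (V × V) := fun g =>
    ((Finset.univ.filter fun x : V => g • x = x) ×ˢ (Finset.univ.filter fun x : V => g • x = x)).erase 0
  have hS : ∀ g : A, (S g).card = Nat.card (fixSub (V := V) g) ^ 2 - 1 := fun g => by
    rw [Finset.card_erase_of_mem (by simp), Finset.card_product, sq,
      show Nat.card (fixSub (V := V) g) = (Finset.univ.filter fun x : V => g • x = x).card from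
        Nat.card_eq_fintype_card.trans (Fintype.card_subtype _)]
  have hsub : (Finset.univ.erase (0 : V × V)) ⊆ (Finset.univ.erase (1 : A)).biUnion S := by
    intro p hp
    unfold HasBase at hno
    push Not at hno
    obtain ⟨g, h1, h2, z, hz⟩ := hno p.1 p.2
    refine Finset.mem_biUnion.2 ⟨g, Finset.mem_erase.2 ⟨fun hg => hz (by rw [hg, one_smul]),
      Finset.mem_univ _⟩, Finset.mem_erase.2 ⟨(Finset.mem_erase.1 hp).1, ?_⟩⟩
    simp [h1, h2]
  have h := (Finset.card_le_card hsub).trans Finset.card_biUnion_le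
  rw [Finset.card_erase_of_mem (Finset.mem_univ _), Finset.card_univ, Fintype.card_prod,
    ← Nat.card_eq_fintype_card, ← sq] at h
  exact h.trans_eq (Finset.sum_congr rfl fun g _ => hS g)

end General

/-! ### Arithmetic -/

theorem sum_sub_one_le {ι : Type u} (s : Finset ι) (a : ι → ℕ) (ha : ∀ i ∈ s, 1 ≤ a i) :
    ∑ i ∈ s, (a i - 1) ≤ (∏ i ∈ s, a i) - 1 := by
  classical
  induction s using Finset.induction_on with
  | empty => simp
  | insert i s hi ih =>
    rw [Finset.sum_insert hi, Finset.prod_insert hi]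
    have h1 := ih fun j hj => ha j (Finset.mem_insert_of_mem hj)
    have h2 := ha i (Finset.mem_insert_self i s)
    have h3 : 1 ≤ ∏ j ∈ s, a j := Finset.one_le_prod' fun j hj => ha j (Finset.mem_insert_of_mem hj)
    obtain ⟨x, hx⟩ := Nat.exists_eq_add_of_le' h2
    obtain ⟨y, hy⟩ := Nat.exists_eq_add_of_le' h3
    rw [hx, hy]
    rw [hy] at h1
    rw [show (x + 1) * (y + 1) = x * y + x + y + 1 by ring]
    omega

theorem sum_sq_sub_one_le_mul {ι : Type u} (s : Finset ι) (n : ι → ℕ) (hn : ∀ i ∈ s, 1 ≤ n i)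
    {N Q : ℕ} (hN : ∀ i ∈ s, n i ≤ N) (hQ : ∏ i ∈ s, n i ≤ Q) :
    ∑ i ∈ s, (n i ^ 2 - 1) ≤ (N + 1) * (Q - 1) := by
  calc ∑ i ∈ s, (n i ^ 2 - 1) ≤ ∑ i ∈ s, (N + 1) * (n i - 1) := Finset.sum_le_sum fun i hi => by
        obtain ⟨x, hx⟩ := Nat.exists_eq_add_of_le (hn i hi)
        have h1 := hN i hi
        rw [hx] at h1 ⊢
        rw [show (1 + x) ^ 2 - 1 = (x + 2) * x by
          rw [show (1 + x) ^ 2 = (x + 2) * x + 1 by ring]; omega, Nat.add_sub_cancel_left]
        exact Nat.mul_le_mul_right _ (by omega)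
    _ = (N + 1) * ∑ i ∈ s, (n i - 1) := by rw [Finset.mul_sum]
    _ ≤ (N + 1) * (Q - 1) := Nat.mul_le_mul_left _
        ((sum_sub_one_le s n hn).trans (Nat.sub_le_sub_right hQ 1))

/-- Powers of `q`, each at most `q^(2m/3)`, with product at most `q^m`. -/
theorem sum_sq_sub_one_le {ι : Type u} (s : Finset ι) (q m : ℕ) (d : ι → ℕ) (hq : 2 ≤ q)
    (hd : ∀ i ∈ s, 3 * d i ≤ 2 * m) (hprod : ∏ i ∈ s, q ^ d i ≤ q ^ m) :
    ∑ i ∈ s, ((q ^ d i) ^ 2 - 1) ≤ 2 * q ^ (4 * m / 3) := by
  classical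
  rcases s.eq_empty_or_nonempty with rfl | hne
  · simp
  obtain ⟨i₀, hi₀, hmax⟩ := Finset.exists_max_image s d hne
  have hone : ∀ i ∈ s, 1 ≤ q ^ d i := fun i _ => Nat.one_le_pow _ _ (by omega)
  by_cases hc : m ≤ 3 * d i₀
  · rw [← Finset.add_sum_erase _ _ hi₀]
    have h1 : (q ^ d i₀) ^ 2 - 1 ≤ q ^ (4 * m / 3) := by
      refine (Nat.sub_le _ _).trans ?_
      rw [← pow_mul]
      exact Nat.pow_le_pow_right (by omega) (by have := hd i₀ hi₀; omega)
    have h2 : ∑ i ∈ s.erase i₀, ((q ^ d i) ^ 2 - 1) ≤ q ^ (4 * m / 3) := by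
      refine (sum_sub_one_le _ _ fun i hi => Nat.one_le_pow _ _ (hone i (Finset.mem_of_mem_erase hi))).trans
        ((Nat.sub_le _ _).trans ?_)
      rw [Finset.prod_pow]
      have h3 : q ^ d i₀ * ∏ i ∈ s.erase i₀, q ^ d i ≤ q ^ d i₀ * q ^ (m - d i₀) := by
        rw [Finset.mul_prod_erase _ (fun i => q ^ d i) hi₀, ← pow_add,
          Nat.add_sub_cancel' (by have := hd i₀ hi₀; omega)]
        exact hprod
      refine (Nat.pow_le_pow_left (Nat.le_of_mul_le_mul_left h3 (by positivity)) 2).trans ?_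
      rw [← pow_mul]
      exact Nat.pow_le_pow_right (by omega) (by have := hd i₀ hi₀; omega)
    omega
  · refine (sum_sq_sub_one_le_mul s _ hone (fun i hi => Nat.pow_le_pow_right (by omega) (hmax i hi)) hprod).trans ?_
    calc (q ^ d i₀ + 1) * (q ^ m - 1) ≤ (2 * q ^ d i₀) * q ^ m :=
          Nat.mul_le_mul (by have := hone i₀ hi₀; omega) (Nat.sub_le _ _)
      _ = 2 * q ^ (d i₀ + m) := by rw [pow_add, mul_assoc]
      _ ≤ 2 * q ^ (4 * m / 3) := Nat.mul_le_mul_left _ (Nat.pow_le_pow_right (by omega) (by omega))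

namespace PrimData

variable {A : Type u} [Group A] {K : Type w} [Field K] {V : Type v} [AddCommGroup V] [Module K V]
  [DistribMulAction A V] (P : PrimData A K V)
variable [Finite A] [Finite K] [Finite V] [FaithfulSMul A V]

theorem fix_Z {z : ↥P.Z} (hz : z ≠ 1) {x : V} (hx : (z : A) • x = x) : x = 0 := by
  rw [P.scalar] at hx
  have h : (((P.χ z : Kˣ) : K) - 1) • x = 0 := by rw [sub_smul, one_smul, hx, sub_self]
  refine (smul_eq_zero.1 h).resolve_left fun h1 => hz (P.χ_injective ?_)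
  rw [map_one]
  exact Units.ext (sub_eq_zero.1 h1)

theorem card_fix_Z {z : A} (hz : z ∈ P.Z) (hz1 : z ≠ 1) : Nat.card (fixSub (V := V) z) = 1 := by
  have h : fixSub (V := V) z = ⊥ := eq_bot_iff.2 fun x hx => AddSubgroup.mem_bot.2
    (P.fix_Z (z := ⟨z, hz⟩) (fun h => hz1 (congrArg Subtype.val h)) hx)
  rw [h, AddSubgroup.card_bot]

/-- Outside the centraliser of the scalars. -/
theorem fixed_sq_le {g : A} (hg : g ∉ P.C) : Nat.card (fixSub (V := V) g) ^ 2 ≤ Nat.card V := by
  obtain ⟨z, hz, hne⟩ : ∃ z ∈ P.Z, z * g ≠ g * z := by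
    by_contra! h
    exact hg fun a ha => h a ha
  have h1 : fixSub (V := V) g ⊓ fixSub (z * g * z⁻¹) = ⊥ := eq_bot_iff.2 fun x hx => by
    refine AddSubgroup.mem_bot.2 (P.fix_Z (z := ⟨z * (g * z⁻¹ * g⁻¹),
      P.Z.mul_mem hz (P.normalZ.conj_mem _ (inv_mem hz) g)⟩) (fun h => hne ?_) ?_)
    · have h' : z * (g * z⁻¹ * g⁻¹) = 1 := congrArg Subtype.val h
      calc z * g = z * (g * z⁻¹ * g⁻¹) * (g * z) := by group
        _ = g * z := by rw [h', one_mul]
    · show (z * (g * z⁻¹ * g⁻¹)) • x = x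
      obtain ⟨hg1, hg2⟩ := hx
      change g • x = x at hg1
      change (z * g * z⁻¹) • x = x at hg2
      conv_lhs => rw [← hg1]
      rw [← mul_smul, show z * (g * z⁻¹ * g⁻¹) * g = z * g * z⁻¹ by group, hg2]
  have h2 := card_mul_card_le (fixSub (V := V) g) (fixSub (z * g * z⁻¹))
  rwa [h1, AddSubgroup.card_bot, one_mul, card_fix_conj, ← sq] at h2

/-- An element of `M` outside the scalars has three eigenspaces of equal size. -/
theorem fixed_cube_le_M (hodd : Odd (Nat.card A)) {y : A} (hy : y ∈ P.M) (hyZ : y ∉ P.Z) :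
    Nat.card (fixSub (V := V) y) ^ 3 ≤ Nat.card V := by
  obtain ⟨x, hx, hne⟩ : ∃ x ∈ P.M, y * x ≠ x * y := by
    by_contra! h
    exact hyZ (P.good.center y hy h)
  set t : ↥P.Z := ⟨⁅y, x⁆, P.good.comm y hy x hx⟩
  have ht1 : t ≠ 1 := fun h => hne (commutatorElement_eq_one_iff_mul_comm.1 (congrArg Subtype.val h))
  set ζ : K := ((P.χ t : Kˣ) : K)
  have hζ1 : ζ ≠ 1 := fun h => ht1 (P.χ_injective (by rw [map_one]; exact Units.ext h))
  have hζ2 : ζ ^ 2 ≠ 1 := fun h => by
    have h2 : t ^ 2 = 1 := P.χ_injective (by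
      rw [map_pow, map_one]
      exact Units.ext (by rw [Units.val_pow_eq_pow_val]; exact h))
    obtain ⟨k, hk⟩ := eq_sq_pow (odd_card_subgroup hodd P.Z) t
    exact ht1 (by rw [← hk, h2, one_pow])
  have hrel : ∀ v : V, y • x • v = ζ • x • y • v := fun v => by
    rw [← P.scalar t, ← mul_smul, ← mul_smul, ← mul_smul]
    congr 1
    show y * x = ⁅y, x⁆ * x * y
    rw [commutatorElement_def]; group
  let U := fixSub (V := V) y
  have e0 : ∀ u : U, y • (u : V) = (u : V) := fun u => u.2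
  have e1 : ∀ u : U, y • x • (u : V) = ζ • x • (u : V) := fun u => by rw [hrel, e0]
  have hlinx : ∀ (c : K) (v : V), x • c • v = c • x • v := P.linear x (P.good.le_centralizer hx)
  have hliny : ∀ (c : K) (v : V), y • c • v = c • y • v := P.linear y (P.good.le_centralizer hy)
  have e2 : ∀ u : U, y • x • x • (u : V) = ζ ^ 2 • x • x • (u : V) := fun u => by
    rw [hrel, e1, hlinx, smul_smul, ← sq]
  let F : U × U × U → V := fun p => (p.1 : V) + x • (p.2.1 : V) + x • x • (p.2.2 : V)
  have hF : Function.Injective F := by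
    have key : ∀ a b c : V, y • a = a → y • b = ζ • b → y • c = ζ ^ 2 • c → a + b + c = 0 →
        a = 0 ∧ b = 0 ∧ c = 0 := by
      intro a b c ha hb hc h
      have h1 : a + ζ • b + ζ ^ 2 • c = 0 := by
        have := congrArg (y • ·) h
        simpa [smul_add, ha, hb, hc] using this
      have h2 : a + (ζ * ζ) • b + (ζ ^ 2 * ζ ^ 2) • c = 0 := by
        have := congrArg (y • ·) h1
        simpa [smul_add, ha, hliny, hb, hc, smul_smul] using this
      have h3 : (ζ * (ζ - 1) * (ζ ^ 2 - 1)) • c =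
          (a + (ζ * ζ) • b + (ζ ^ 2 * ζ ^ 2) • c) - (ζ + 1) • (a + ζ • b + ζ ^ 2 • c) +
            ζ • (a + b + c) := by
        simp only [smul_add, smul_smul]
        module
      rw [h, h1, h2, smul_zero, smul_zero, sub_zero, zero_add, smul_eq_zero] at h3
      have hζ0 : ζ ≠ 0 := (P.χ t).ne_zero
      have hc0 : c = 0 := h3.resolve_left
        (mul_ne_zero (mul_ne_zero hζ0 (sub_ne_zero.2 hζ1)) (sub_ne_zero.2 hζ2))
      subst hc0
      rw [smul_zero, add_zero] at h1
      rw [add_zero] at h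
      have h4 : (ζ - 1) • b = (a + ζ • b) - (a + b) := by rw [sub_smul, one_smul]; abel
      rw [h1, h, sub_zero, smul_eq_zero] at h4
      have hb0 := h4.resolve_left (sub_ne_zero.2 hζ1)
      subst hb0
      rw [add_zero] at h
      exact ⟨h, rfl, rfl⟩
    intro p q hpq
    obtain ⟨h1, h2, h3⟩ := key ((p.1 - q.1 : U) : V) (x • ((p.2.1 - q.2.1 : U) : V))
      (x • x • ((p.2.2 - q.2.2 : U) : V)) (e0 _) (e1 _) (e2 _) (by
        simp only [AddSubgroup.coe_sub, smul_sub]
        rw [← sub_eq_zero.2 hpq]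
        simp only [F]
        abel)
    rw [smul_eq_zero_iff_eq] at h2
    rw [smul_eq_zero_iff_eq, smul_eq_zero_iff_eq] at h3
    exact Prod.ext (sub_eq_zero.1 (Subtype.ext h1)) (Prod.ext (sub_eq_zero.1 (Subtype.ext h2))
      (sub_eq_zero.1 (Subtype.ext h3)))
  have h := Nat.card_le_card_of_injective F hF
  rw [Nat.card_prod, Nat.card_prod] at h
  rw [show Nat.card (fixSub (V := V) y) ^ 3 = Nat.card U * (Nat.card U * Nat.card U) by ring]
  exact h

/-- An element of the centraliser outside the scalars. -/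
theorem fixed_cube_le (hodd : Odd (Nat.card A)) {g : A} (hg : g ∈ P.C) (hgZ : g ∉ P.Z) :
    Nat.card (fixSub (V := V) g) ^ 3 ≤ Nat.card V ^ 2 := by
  obtain ⟨x, hx, hne⟩ : ∃ x ∈ P.M, g * x ≠ x * g := by
    by_contra! h
    exact hgZ (P.cent g hg h)
  set y := x * g * x⁻¹ * g⁻¹ with hy
  have hyM : y ∈ P.M := by
    rw [show y = x * (g * x⁻¹ * g⁻¹) by rw [hy]; group]
    exact P.M.mul_mem hx (P.normal_M.conj_mem _ (inv_mem hx) g)
  have hsub : fixSub (V := V) g ⊓ fixSub (x * g * x⁻¹) ≤ fixSub y := fun v ⟨h1, h2⟩ => by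
    change g • v = v at h1
    change (x * g * x⁻¹) • v = v at h2
    show y • v = v
    rw [hy]
    conv_lhs => rw [← h1]
    rw [← mul_smul, inv_mul_cancel_right, h2]
  have h := (card_mul_card_le (fixSub (V := V) g) (fixSub (x * g * x⁻¹))).trans
    (Nat.mul_le_mul_right _ (AddSubgroup.card_le_of_le hsub))
  rw [card_fix_conj, ← sq] at h
  have hy3 : Nat.card (fixSub (V := V) y) ^ 3 ≤ Nat.card V := by
    by_cases hyZ : y ∈ P.Z
    · rw [P.card_fix_Z hyZ fun h1 => hne ?_, one_pow]
      · exact Nat.card_pos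
      · calc g * x = 1 * (g * x) := (one_mul _).symm
          _ = y * (g * x) := by rw [h1]
          _ = x * g := by rw [hy]; group
    · exact P.fixed_cube_le_M hodd hyM hyZ
  refine (Nat.pow_le_pow_iff_left two_ne_zero).1 ?_
  calc (Nat.card (fixSub (V := V) g) ^ 3) ^ 2 = (Nat.card (fixSub (V := V) g) ^ 2) ^ 3 := by ring
    _ ≤ (Nat.card (fixSub (V := V) y) * Nat.card V) ^ 3 := Nat.pow_le_pow_left h 3
    _ = Nat.card (fixSub (V := V) y) ^ 3 * Nat.card V ^ 3 := by ring
    _ ≤ Nat.card V * Nat.card V ^ 3 := Nat.mul_le_mul_right _ hy3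
    _ = (Nat.card V ^ 2) ^ 2 := by ring

theorem exists_card_fix_eq {g : A} (hg : g ∈ P.C) :
    ∃ d, Nat.card (fixSub (V := V) g) = Nat.card K ^ d := by
  let U : Submodule K V :=
    { fixSub (V := V) g with
      smul_mem' := fun c x (hx : g • x = x) => show g • c • x = c • x by rw [P.linear g hg, hx] }
  exact ⟨_, Module.natCard_eq_pow_finrank (K := K) (V := U)⟩

/-- The fixed point groups along a coset of the scalars are independent. -/
theorem prod_fix_le [Fintype ↥P.Z] {g : A} (hg : g ∈ P.C) :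
    ∏ z : ↥P.Z, Nat.card (fixSub (V := V) (g * (z : A))) ≤ Nat.card V := by
  classical
  haveI : Module.Finite K V := Module.Finite.of_finite
  let μ : ↥P.Z → K := fun z => ((P.χ z⁻¹ : Kˣ) : K)
  have hμ : Function.Injective μ := fun a b h => inv_injective (P.χ_injective (Units.ext h))
  have hind := (Module.End.eigenspaces_iSupIndep (P.op hg)).comp hμ
  have hmem : ∀ (z : ↥P.Z) (x : V), x ∈ fixSub (g * (z : A)) →
      x ∈ ((Module.End.eigenspace (P.op hg)) ∘ μ) z := fun z x hx => by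
    refine Module.End.mem_eigenspace_iff.2 ?_
    show g • x = μ z • x
    change (g * (z : A)) • x = x at hx
    rw [mul_smul, P.scalar, P.linear g hg] at hx
    conv_rhs => rw [← hx]
    show g • x = ((P.χ z⁻¹ : Kˣ) : K) • ((P.χ z : Kˣ) : K) • g • x
    rw [smul_smul, ← Units.val_mul, ← map_mul, inv_mul_cancel, map_one, Units.val_one, one_smul]
  rw [← Nat.card_pi]
  refine Nat.card_le_card_of_injective
    (fun f : (z : ↥P.Z) → fixSub (V := V) (g * (z : A)) => ∑ z, (f z : V)) fun f f' h => ?_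
  exact funext fun z => Subtype.ext ((iSupIndep_iff_finsetSum_eq_imp_eq _).1 hind Finset.univ
    (fun z => (f z : V)) (fun z => (f' z : V))
    (fun z _ => ⟨hmem z _ (f z).2, hmem z _ (f' z).2⟩) h z (Finset.mem_univ _))

theorem coset_bound (hodd : Odd (Nat.card A)) [Fintype ↥P.Z] {m : ℕ}
    (hm : Nat.card V = Nat.card K ^ m) {g : A} (hg : g ∈ P.C) (hgZ : g ∉ P.Z) :
    ∑ z : ↥P.Z, (Nat.card (fixSub (V := V) (g * (z : A))) ^ 2 - 1) ≤
      2 * Nat.card K ^ (4 * m / 3) := by
  have hgz : ∀ z : ↥P.Z, g * (z : A) ∈ P.C := fun z =>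
    P.C.mul_mem hg (P.good.le_centralizer (P.good.le z.2))
  choose d hd using fun z => P.exists_card_fix_eq (hgz z)
  simp only [hd]
  refine sum_sq_sub_one_le _ _ _ d Finite.one_lt_card (fun z _ => ?_) ?_
  · have h := P.fixed_cube_le hodd (hgz z) fun h => hgZ (by
      simpa using P.Z.mul_mem h (inv_mem z.2))
    rw [hd, hm, ← pow_mul, ← pow_mul] at h
    have := (Nat.pow_le_pow_iff_right Finite.one_lt_card).1 h
    omega
  · rw [← hm, ← Finset.prod_congr rfl fun z _ => hd z]
    exact P.prod_fix_le hg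

theorem coset_bound_three (hodd : Odd (Nat.card A)) [Fintype ↥P.Z] {m : ℕ}
    (hm : Nat.card V = Nat.card K ^ m) (hCM : P.C ≤ P.M) {g : A} (hg : g ∈ P.C) (hgZ : g ∉ P.Z) :
    ∑ z : ↥P.Z, (Nat.card (fixSub (V := V) (g * (z : A))) ^ 2 - 1) ≤
      (Nat.card K ^ (m / 3) + 1) * (Nat.card K ^ m - 1) := by
  have hgz : ∀ z : ↥P.Z, g * (z : A) ∈ P.C := fun z =>
    P.C.mul_mem hg (P.good.le_centralizer (P.good.le z.2))
  choose d hd using fun z => P.exists_card_fix_eq (hgz z)
  refine sum_sq_sub_one_le_mul _ _ (fun z _ => Nat.card_pos) (fun z _ => ?_) ?_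
  · have h := P.fixed_cube_le_M hodd (hCM (hgz z)) fun h => hgZ (by
      simpa using P.Z.mul_mem h (inv_mem z.2))
    rw [hd, hm, ← pow_mul] at h
    have := (Nat.pow_le_pow_iff_right Finite.one_lt_card).1 h
    rw [hd]
    exact Nat.pow_le_pow_right Nat.card_pos (by omega)
  · rw [← hm]
    exact P.prod_fix_le hg

/-- The counting criterion. -/
theorem hasBase_of_bound [Nontrivial V] {B X k : ℕ}
    (hX : (P.Z.subgroupOf P.C).index = X) (hk : P.C.index = k)
    (hB : ∀ g ∈ P.C, g ∉ P.Z → ∀ [Fintype ↥P.Z],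
      ∑ z : ↥P.Z, (Nat.card (fixSub (V := V) (g * (z : A))) ^ 2 - 1) ≤ B)
    (hlt : (X - 1) * B + (k - 1) * (X * (Nat.card K - 1)) * (Nat.card V - 1) < Nat.card V ^ 2 - 1) :
    HasBase A V := by
  classical
  by_contra hno
  haveI := Fintype.ofFinite A
  refine hlt.not_ge ((sum_fix_ge (A := A) (V := V) hno).trans ?_)
  let f : A → ℕ := fun g => Nat.card (fixSub (V := V) g) ^ 2 - 1
  show ∑ g ∈ Finset.univ.erase (1 : A), f g ≤ _
  rw [← Finset.sum_filter_add_sum_filter_not _ (fun g => g ∈ P.C)]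
  refine Nat.add_le_add ?_ ?_
  · have h1 : ∑ g ∈ (Finset.univ.erase (1 : A)).filter (fun g => g ∈ P.C), f g ≤
        ∑ g : ↥P.C, (if (g : A) ∈ P.Z then 0 else f g) := by
      rw [← Finset.sum_subtype (Finset.univ.filter (· ∈ P.C)) (by simp)
        (fun g : A => if g ∈ P.Z then 0 else f g)]
      rw [Finset.filter_erase, ← Finset.sum_erase (Finset.univ.filter (· ∈ P.C))
        (f := fun g : A => if g ∈ P.Z then 0 else f g) (a := 1) (if_pos P.Z.one_mem)]
      refine le_of_eq (Finset.sum_congr rfl fun g hg => ?_)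
      split_ifs with hgZ
      · show Nat.card (fixSub (V := V) g) ^ 2 - 1 = 0
        rw [P.card_fix_Z hgZ (Finset.mem_erase.1 hg).1, one_pow, Nat.sub_self]
      · rfl
    refine h1.trans ?_
    set S := P.Z.subgroupOf P.C with hS
    have hle : P.Z ≤ P.C := P.good.le.trans P.good.le_centralizer
    let eZ := (Subgroup.subgroupOfEquivOfLe hle).toEquiv
    haveI := Fintype.ofFinite ↥P.Z
    let e : (↥P.C ⧸ S) × ↥P.Z ≃ ↥P.C :=
      { toFun := fun p => p.1.out * ((eZ.symm p.2 : S) : ↥P.C)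
        invFun := fun g => (QuotientGroup.mk g, eZ ⟨(QuotientGroup.mk (s := S) g).out⁻¹ * g,
          QuotientGroup.eq.1 (QuotientGroup.out_eq' _)⟩)
        left_inv := fun p => by
          have h : (QuotientGroup.mk (p.1.out * ((eZ.symm p.2 : S) : ↥P.C)) : ↥P.C ⧸ S) = p.1 := by
            rw [QuotientGroup.mk_mul_of_mem _ (eZ.symm p.2).2, QuotientGroup.out_eq']
          refine Prod.ext h ?_
          rw [← Equiv.eq_symm_apply]
          refine Subtype.ext ?_
          show (QuotientGroup.mk (s := S) _).out⁻¹ * _ = _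
          rw [h, inv_mul_cancel_left]
        right_inv := fun g => by
          show _ * ((eZ.symm (eZ _) : S) : ↥P.C) = g
          rw [Equiv.symm_apply_apply, mul_inv_cancel_left] }
    haveI : Fintype (↥P.C ⧸ S) := Fintype.ofFinite _
    rw [← e.sum_comp, Fintype.sum_prod_type, ← Finset.add_sum_erase _ _ (Finset.mem_univ
      ((1 : ↥P.C) : ↥P.C ⧸ S))]
    have hout : ((((1 : ↥P.C) : ↥P.C ⧸ S)).out : A) ∈ P.Z := by
      have h : (((1 : ↥P.C) : ↥P.C ⧸ S)).out ∈ S := by
        have h0 := QuotientGroup.eq.1 (QuotientGroup.out_eq' (((1 : ↥P.C) : ↥P.C ⧸ S))).symm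
        rwa [inv_one, one_mul] at h0
      exact h
    have heq : ∀ (q : ↥P.C ⧸ S) (z : ↥P.Z), ((e (q, z) : ↥P.C) : A) = (q.out : A) * (z : A) :=
      fun q z => rfl
    simp only [heq]
    rw [Finset.sum_eq_zero (s := Finset.univ) (fun (z : ↥P.Z) _ => if_pos (P.Z.mul_mem hout z.2)),
      zero_add]
    refine (Finset.sum_le_card_nsmul _ _ B fun q hq => ?_).trans (le_of_eq ?_)
    · have hqZ : (q.out : A) ∉ P.Z := fun h => (Finset.mem_erase.1 hq).1 (by
        rw [← QuotientGroup.out_eq' q]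
        exact QuotientGroup.eq.2 (by simpa using (show q.out ∈ S from h)))
      refine le_trans (Finset.sum_le_sum fun z _ => ?_) (hB _ q.out.2 hqZ)
      split_ifs
      · exact Nat.zero_le _
      · exact le_rfl
    · rw [Finset.card_erase_of_mem (Finset.mem_univ _), Finset.card_univ, smul_eq_mul,
        ← Nat.card_eq_fintype_card]
      rw [← hX]; rfl
  · have hbound : ∀ g ∈ (Finset.univ.erase (1 : A)).filter (fun g => ¬ g ∈ P.C),
        f g ≤ Nat.card V - 1 := fun g hg =>
      Nat.sub_le_sub_right (P.fixed_sq_le (Finset.mem_filter.1 hg).2) 1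
    refine (Finset.sum_le_card_nsmul _ _ _ hbound).trans ?_
    rw [smul_eq_mul]
    refine Nat.mul_le_mul_right _ ?_
    have hC : Nat.card ↥P.C ≤ X * (Nat.card K - 1) := by
      rw [← hX, ← Subgroup.card_mul_index (P.Z.subgroupOf P.C), mul_comm]
      refine Nat.mul_le_mul_left _ ?_
      rw [Nat.card_congr (Subgroup.subgroupOfEquivOfLe (P.good.le.trans P.good.le_centralizer)).toEquiv,
        ← Nat.card_units K]
      exact Nat.card_le_card_of_injective _ P.χ_injective
    have h2 : ((Finset.univ.erase (1 : A)).filter (fun g => ¬ g ∈ P.C)).card + Nat.card ↥P.C ≤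
        k * Nat.card ↥P.C := by
      have hd : Disjoint ((Finset.univ.erase (1 : A)).filter (fun g => ¬ g ∈ P.C))
          (Finset.univ.filter (· ∈ P.C)) := Finset.disjoint_left.2 fun a ha hb =>
        (Finset.mem_filter.1 ha).2 (Finset.mem_filter.1 hb).2
      rw [← hk, mul_comm, Subgroup.card_mul_index,
        show Nat.card ↥P.C = (Finset.univ.filter (· ∈ P.C)).card from
          Nat.card_eq_fintype_card.trans (Fintype.card_subtype _),
        ← Finset.card_union_of_disjoint hd, Nat.card_eq_fintype_card]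
      exact Finset.card_le_univ _
    calc ((Finset.univ.erase (1 : A)).filter (fun g => ¬ g ∈ P.C)).card
        ≤ k * Nat.card ↥P.C - Nat.card ↥P.C := Nat.le_sub_of_add_le h2
      _ = (k - 1) * Nat.card ↥P.C := by rw [Nat.sub_mul, one_mul]
      _ ≤ (k - 1) * (X * (Nat.card K - 1)) := Nat.mul_le_mul_left _ hC

end PrimData

end Cfsg.Agent.OddBaseTwo
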