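import Mathlib.Tactic.Ring
import Mathlib.Tactic.IntervalCases
import Mathlib.Tactic.NormNum.Prime
import Mathlib.Algebra.Ring.Parity
import Mathlib.Tactic.Positivity
import Mathlib.Tactic.NormNum.GCD
import Mathlib.Algebra.Order.Ring.Basic
import Mathlib.Data.Nat.Prime.Basic

/-!
# The numerical inequalities
-/

set_option autoImplicit false

namespace Cfsg.Agent.OddBaseTwo

theorem exp_gap_mono {e m : ℕ} (h : e ≤ m) : 2 * e - 4 * e / 3 ≤ 2 * m - 4 * m / 3 := by omega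

theorem count_gen {q m k X : ℕ} (hq : 2 ≤ q) (hm : 1 ≤ m)
    (hX1 : 4 * X < q ^ (2 * m - 4 * m / 3)) (hX2 : X * q ^ 2 ≤ q ^ m) (hk : 2 * (k - 1) ≤ q) :
    (X - 1) * (2 * q ^ (4 * m / 3)) + (k - 1) * (X * (q - 1)) * (q ^ m - 1) < (q ^ m) ^ 2 - 1 := by
  have h2 : q ≤ q ^ m := Nat.le_self_pow (by omega) q
  have hsplit : q ^ (4 * m / 3) * q ^ (2 * m - 4 * m / 3) = (q ^ m) ^ 2 := by
    rw [← pow_add, ← pow_mul]; congr 1; omega
  set F := q ^ (4 * m / 3)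
  set Q := q ^ m
  set G := q ^ (2 * m - 4 * m / 3)
  have e1 : 2 * ((X - 1) * (2 * F)) + F ≤ Q ^ 2 := by
    calc 2 * ((X - 1) * (2 * F)) + F ≤ 2 * (X * (2 * F)) + F := by
          have := Nat.mul_le_mul_right (2 * F) (Nat.sub_le X 1); omega
      _ = (4 * X + 1) * F := by ring
      _ ≤ G * F := Nat.mul_le_mul_right _ hX1
      _ = Q ^ 2 := by rw [mul_comm]; exact hsplit
  have e2 : 2 * ((k - 1) * (X * (q - 1)) * (Q - 1)) + Q ≤ Q ^ 2 := by
    calc 2 * ((k - 1) * (X * (q - 1)) * (Q - 1)) + Q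
        = 2 * (k - 1) * (X * (q - 1)) * (Q - 1) + Q := by ring
      _ ≤ q * (X * q) * (Q - 1) + Q := Nat.add_le_add_right (Nat.mul_le_mul_right _
            (Nat.mul_le_mul hk (Nat.mul_le_mul_left X (Nat.sub_le q 1)))) _
      _ = X * q ^ 2 * (Q - 1) + Q := by ring
      _ ≤ Q * (Q - 1) + Q := Nat.add_le_add_right (Nat.mul_le_mul_right _ hX2) _
      _ = Q ^ 2 := by
          obtain ⟨y, hy⟩ := Nat.exists_eq_add_of_le' (show 1 ≤ Q by omega)
          rw [hy, Nat.add_sub_cancel]; ring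
  have e3 : 1 ≤ F := Nat.one_le_pow _ _ (by omega)
  omega

theorem count_three {q m k : ℕ} (hq : 4 ≤ q) (hm : 3 ≤ m) (hk : 2 ^ k ≤ q) (hkodd : Odd k) :
    (9 - 1) * ((q ^ (m / 3) + 1) * (q ^ m - 1)) + (k - 1) * (9 * (q - 1)) * (q ^ m - 1) <
      (q ^ m) ^ 2 - 1 := by
  have hT : q ≤ q ^ (m / 3) := Nat.le_self_pow (by omega) q
  have hTQ : q ^ (m / 3) * q ^ 2 ≤ q ^ m := by
    rw [← pow_add]; exact Nat.pow_le_pow_right (by omega) (by omega)
  have hQ3 : q ^ 3 ≤ q ^ m := Nat.pow_le_pow_right (by omega) hm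
  have h16 : 16 * q ^ (m / 3) ≤ q ^ m := by
    refine le_trans ?_ hTQ
    rw [mul_comm]
    exact Nat.mul_le_mul_left _ (show 16 ≤ q ^ 2 from le_trans (by norm_num) (Nat.pow_le_pow_left hq 2))
  have hsec : 8 * ((k - 1) * (9 * (q - 1))) ≤ 3 * q ^ m := by
    obtain ⟨j, rfl⟩ := hkodd
    rcases j with _ | j
    · simp
    have h24 : 24 * (2 * (j + 1)) ≤ q ^ 2 := by
      refine le_trans ?_ (Nat.pow_le_pow_left hk 2)
      rw [← pow_mul]
      have h1 : ∀ i : ℕ, 24 * (2 * (i + 1)) ≤ 2 ^ ((2 * (i + 1) + 1) * 2) := by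
        intro i
        induction i with
        | zero => norm_num
        | succ i ih =>
          rw [show (2 * (i + 1 + 1) + 1) * 2 = (2 * (i + 1) + 1) * 2 + 4 by ring, pow_add]
          omega
      exact h1 j
    calc 8 * ((2 * (j + 1) + 1 - 1) * (9 * (q - 1)))
        ≤ 8 * ((2 * (j + 1)) * (9 * q)) := by
          rw [Nat.add_sub_cancel]
          exact Nat.mul_le_mul_left _ (Nat.mul_le_mul_left _ (Nat.mul_le_mul_left _ (Nat.sub_le _ _)))
      _ = 3 * (24 * (2 * (j + 1))) * q := by ring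
      _ ≤ 3 * q ^ 2 * q := Nat.mul_le_mul_right _ (Nat.mul_le_mul_left _ h24)
      _ = 3 * q ^ 3 := by ring
      _ ≤ 3 * q ^ m := Nat.mul_le_mul_left _ hQ3
  set T := q ^ (m / 3)
  set Q := q ^ m
  have hkey : 8 * (T + 1) + (k - 1) * (9 * (q - 1)) ≤ Q := by omega
  have hQ1 : 2 ≤ Q := by omega
  calc (9 - 1) * ((T + 1) * (Q - 1)) + (k - 1) * (9 * (q - 1)) * (Q - 1)
      = (8 * (T + 1) + (k - 1) * (9 * (q - 1))) * (Q - 1) := by ring
    _ ≤ Q * (Q - 1) := Nat.mul_le_mul_right _ hkey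
    _ < Q ^ 2 - 1 := by
        obtain ⟨y, hy⟩ := Nat.exists_eq_add_of_le' (show 1 ≤ Q by omega)
        rw [hy, Nat.add_sub_cancel, show (y + 1) ^ 2 = (y + 1) * y + y + 1 by ring]
        omega

theorem big_bound : ∀ e, 21 ≤ e → 2 * e ^ 6 < 4 ^ (2 * e - 4 * e / 3) := by
  intro e
  induction e using Nat.strong_induction_on with
  | _ e ih =>
    intro he
    by_cases hsm : e < 24
    · interval_cases e <;> norm_num
    obtain ⟨d, rfl⟩ := Nat.exists_eq_add_of_le' (show 3 ≤ e by omega)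
    have h := ih d (by omega) (by omega)
    rw [show 2 * (d + 3) - 4 * (d + 3) / 3 = (2 * d - 4 * d / 3) + 2 by omega, pow_add]
    have h3 : 7 * (d + 3) ≤ 8 * d := by omega
    have h4 := Nat.pow_le_pow_left h3 6
    rw [mul_pow, mul_pow] at h4
    norm_num at h4 ⊢
    omega

/-- The bounds on `X` give the hypotheses of `count_gen`. -/
theorem bounds_of_e {q m e X : ℕ} (he5 : 5 ≤ e) (heodd : Odd e) (hem : e ≤ m) (hq : 4 ≤ q)
    (hdvd : ∀ r : ℕ, r.Prime → r ∣ e → r ∣ q - 1) (hq6 : q ≠ 6)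
    (h5 : e = 5 → X ≤ 375) (h7 : e = 7 → X ≤ 3087) (h9 : e = 9 → X ≤ 405)
    (hX : 2 * X ≤ e ^ 6) :
    4 * X < q ^ (2 * m - 4 * m / 3) ∧ X * q ^ 2 ≤ q ^ m := by
  have hmono : q ^ (2 * e - 4 * e / 3) ≤ q ^ (2 * m - 4 * m / 3) :=
    Nat.pow_le_pow_right (by omega) (exp_gap_mono hem)
  suffices h : 4 * X < q ^ (2 * e - 4 * e / 3) ∧ X ≤ q ^ (e - 2) by
    refine ⟨lt_of_lt_of_le h.1 hmono, ?_⟩
    calc X * q ^ 2 ≤ q ^ (e - 2) * q ^ 2 := Nat.mul_le_mul_right _ h.2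
      _ = q ^ e := by rw [← pow_add]; congr 1; omega
      _ ≤ q ^ m := Nat.pow_le_pow_right (by omega) hem
  by_cases he : e = 5
  · subst he
    have h1 := hdvd 5 (by norm_num) dvd_rfl
    have hX5 := h5 rfl
    have hq11 : 11 ≤ q := by omega
    have e4 : 11 ^ 4 ≤ q ^ (2 * 5 - 4 * 5 / 3) := Nat.pow_le_pow_left hq11 4
    have e3 : 11 ^ 3 ≤ q ^ (5 - 2) := Nat.pow_le_pow_left hq11 3
    norm_num at e4 e3 ⊢
    omega
  suffices h : 4 * X < q ^ (2 * e - 4 * e / 3) by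
    refine ⟨h, ?_⟩
    have hmon : q ^ (2 * e - 4 * e / 3) ≤ q ^ (e - 2) := by
      refine Nat.pow_le_pow_right (by omega) ?_
      obtain ⟨j, rfl⟩ := heodd
      omega
    omega
  by_cases he21 : 21 ≤ e
  · have h1 := big_bound e he21
    have h2 : 4 ^ (2 * e - 4 * e / 3) ≤ q ^ (2 * e - 4 * e / 3) := Nat.pow_le_pow_left hq _
    omega
  obtain ⟨j, rfl⟩ := heodd
  have hj2 : j ≤ 9 := by omega
  have hj3 : 3 ≤ j := by omega
  interval_cases j
  · have h1 := hdvd 7 (by norm_num) (by norm_num)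
    have hX7 := h7 rfl
    have hq8 : 8 ≤ q := by omega
    have e5 : 8 ^ 5 ≤ q ^ 5 := Nat.pow_le_pow_left hq8 5
    norm_num at e5 ⊢
    omega
  · have hX9 := h9 rfl
    have e6 : 4 ^ 6 ≤ q ^ 6 := Nat.pow_le_pow_left hq 6
    norm_num at e6 ⊢
    omega
  · have h1 := hdvd 11 (by norm_num) (by norm_num)
    have e8 : 12 ^ 8 ≤ q ^ 8 := Nat.pow_le_pow_left (by omega) 8
    norm_num at e8 hX ⊢
    omega
  · have h1 := hdvd 13 (by norm_num) (by norm_num)
    have e9 : 14 ^ 9 ≤ q ^ 9 := Nat.pow_le_pow_left (by omega) 9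
    norm_num at e9 hX ⊢
    omega
  · have h1 := hdvd 3 (by norm_num) (by norm_num)
    have h2 := hdvd 5 (by norm_num) (by norm_num)
    have e10 : 16 ^ 10 ≤ q ^ 10 := Nat.pow_le_pow_left (by omega) 10
    norm_num at e10 hX ⊢
    omega
  · have h1 := hdvd 17 (by norm_num) (by norm_num)
    have e12 : 18 ^ 12 ≤ q ^ 12 := Nat.pow_le_pow_left (by omega) 12
    norm_num at e12 hX ⊢
    omega
  · have h1 := hdvd 19 (by norm_num) (by norm_num)
    have e13 : 20 ^ 13 ≤ q ^ 13 := Nat.pow_le_pow_left (by omega) 13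
    norm_num at e13 hX ⊢
    omega

end Cfsg.Agent.OddBaseTwo
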