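import Cfsg.Agent.Lib.OddBaseTwo.Structure
import Cfsg.Agent.Lib.SolvableTransitive.Isometry
import Mathlib.GroupTheory.Sylow
import Mathlib.LinearAlgebra.Matrix.GeneralLinearGroup.Card
import Mathlib.FieldTheory.Finiteness
import Mathlib.Algebra.Field.ZMod
import Mathlib.Algebra.Module.ZMod
import Mathlib.Tactic.NormNum.Prime
import Mathlib.Tactic.IntervalCases

/-!
# The group induced on the section

`Cbar`: the group induced by the centraliser of the scalars on `M/Z`.

* `two_mul_card_Cbar_le`: from a base of size two, `2 |Cbar| ≤ |M/Z|^2`.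
* `cbar_three`, `cbar_five`, `cbar_seven`, `cbar_nine`: bounds for small sections.
-/

set_option autoImplicit false
set_option linter.unusedSectionVars false
set_option linter.style.haveILetI false

namespace Cfsg.Agent.OddBaseTwo

universe u v w

theorem card_mulAut_dvd {W : Type u} [CommGroup W] [Finite W] (p n : ℕ) [Fact p.Prime]
    (hW : Nat.card W = p ^ n) (he : ∀ x : W, x ^ p = 1) :
    Nat.card (MulAut W) ∣ ∏ i : Fin n, (p ^ n - p ^ (i : ℕ)) := by
  classical
  haveI : Module (ZMod p) (Additive W) := AddCommGroup.zmodModule fun x => by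
    show Additive.ofMul (x.toMul ^ p) = 0
    rw [he]; rfl
  haveI : Finite (Additive W) := inferInstanceAs (Finite W)
  haveI : Module.Finite (ZMod p) (Additive W) := Module.Finite.of_finite
  have hr : Module.finrank (ZMod p) (Additive W) = n := by
    have h := Module.natCard_eq_pow_finrank (K := ZMod p) (V := Additive W)
    rw [show Nat.card (Additive W) = p ^ n from (Nat.card_congr Additive.toMul).trans hW,
      Nat.card_zmod] at h
    exact (Nat.pow_right_injective (Fact.out : p.Prime).two_le h).symm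
  let b := Module.finBasisOfFinrankEq (ZMod p) (Additive W) hr
  let toLin : MulAut W →* (Additive W →ₗ[ZMod p] Additive W) :=
    { toFun := fun g => (g.toMonoidHom.toAdditive).toZModLinearMap p
      map_one' := LinearMap.ext fun _ => rfl
      map_mul' := fun g h => LinearMap.ext fun _ => rfl }
  let toGL : MulAut W →* GL (Fin n) (ZMod p) :=
    ((LinearMap.toMatrixAlgEquiv b).toMonoidHom.comp toLin).toHomUnits
  have hinj : Function.Injective toGL := fun g h hgh => by
    have h1 := (LinearMap.toMatrixAlgEquiv b).injective (congrArg Units.val hgh)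
    exact MulEquiv.ext fun x => congrArg Additive.toMul (LinearMap.congr_fun h1 (Additive.ofMul x))
  refine (Subgroup.card_dvd_of_injective toGL hinj).trans (dvd_of_eq ?_)
  rw [Matrix.card_GL_field, ZMod.card]

/-- A `p`-group module with complements has exponent `p`. -/
theorem exponent_of_isCR {A : Type u} [Group A] {V : Type v} [AddCommGroup V] [Finite V]
    [DistribMulAction A V] (hcr : IsCR A V) {p n : ℕ} [hp : Fact p.Prime]
    (hV : Nat.card V = p ^ n) (x : V) : p • x = 0 := by
  let U : AddSubgroup V := (nsmulAddMonoidHom (α := V) p).ker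
  have hU : IsInv A V U := fun a y hy => by
    show p • (a • y) = 0
    rw [smul_comm, show p • y = 0 from hy, smul_zero]
  obtain ⟨W, -, h1, h2⟩ := hcr U hU
  by_cases hW : W = ⊥
  · rw [hW, sup_bot_eq] at h2
    exact (h2 ▸ AddSubgroup.mem_top x : x ∈ U)
  · exfalso
    have hd : p ∣ Nat.card W := by
      obtain ⟨k, -, hk⟩ := (Nat.dvd_prime_pow hp.out).1 (hV ▸ AddSubgroup.card_addSubgroup_dvd_card W)
      rcases k with _ | k
      · exact absurd (AddSubgroup.card_eq_one.1 (by rw [hk, pow_zero])) hW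
      · exact hk ▸ dvd_pow_self p (Nat.succ_ne_zero k)
    obtain ⟨y, hy⟩ := exists_prime_addOrderOf_dvd_card' p hd
    have hm : (y : V) ∈ U ⊓ W := ⟨show p • (y : V) = 0 by
      rw [← AddSubgroup.coe_nsmul, ← hy, addOrderOf_nsmul_eq_zero]; rfl, y.2⟩
    rw [h1, AddSubgroup.mem_bot, ZeroMemClass.coe_eq_zero] at hm
    rw [hm, addOrderOf_zero] at hy
    exact hp.out.ne_one hy.symm

namespace PrimData

variable {A : Type u} [Group A] {K : Type w} [Field K] {V : Type v} [AddCommGroup V] [Module K V]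
  [DistribMulAction A V] (P : PrimData A K V)
variable [Finite A] [FaithfulSMul A V]

/-- The group induced on the section by the centraliser of the scalars. -/
def Cbar : Subgroup (MulAut P.W) := P.C.map P.conj

theorem index_Z_C : (P.Z.subgroupOf P.C).index = Nat.card P.Cbar * Nat.card P.W := by
  have hMC : P.M ≤ P.C := P.good.le_centralizer
  let φ : ↥P.C →* MulAut P.W := P.conj.comp P.C.subtype
  have hker : φ.ker = P.M.subgroupOf P.C := by
    ext g
    rw [MonoidHom.mem_ker, Subgroup.mem_subgroupOf]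
    exact ⟨fun h => P.mem_M_of_conj_eq_one g.2 h, fun h => P.conj_eq_one_of_mem h⟩
  have hrange : φ.range = P.Cbar := by
    rw [MonoidHom.range_eq_map, ← Subgroup.map_map, ← MonoidHom.range_eq_map, Subgroup.range_subtype]
    rfl
  have h1 := Subgroup.card_mul_index φ.ker
  rw [Subgroup.index_ker, hrange, hker,
    Nat.card_congr (Subgroup.subgroupOfEquivOfLe hMC).toEquiv, P.card_M,
    ← Subgroup.card_mul_index (P.Z.subgroupOf P.C),
    Nat.card_congr (Subgroup.subgroupOfEquivOfLe (P.good.le.trans hMC)).toEquiv] at h1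
  exact (Nat.eq_of_mul_eq_mul_left (Nat.card_pos (α := ↥P.Z)) (by rw [← h1]; ring)).symm

theorem C_le_M_of_cbar (h : P.Cbar = ⊥) : P.C ≤ P.M := fun g hg =>
  P.mem_M_of_conj_eq_one hg (by
    have : P.conj g ∈ P.Cbar := ⟨g, hg, rfl⟩
    rwa [h, Subgroup.mem_bot] at this)

theorem odd_cbar (hodd : Odd (Nat.card A)) : Odd (Nat.card P.Cbar) :=
  (odd_card_subgroup hodd P.C).of_dvd_nat (Subgroup.card_map_dvd _ _)

theorem two_mul_card_Cbar_le (hodd : Odd (Nat.card A))
    (hb : letI := P.act; HasBase A (Additive P.W)) :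
    Nat.card P.Cbar ≤ Nat.card P.W ∨ 2 * Nat.card P.Cbar ≤ Nat.card P.W * Nat.card P.W := by
  letI := P.act
  obtain ⟨a, b, hab⟩ := hb
  let F : P.Cbar → P.W × P.W := fun s => (s.1 a.toMul, s.1 b.toMul)
  have key : ∀ (g g' : A) (c d : P.W), P.conj g c = P.conj g' d → P.conj (g'⁻¹ * g) c = d := by
    intro g g' c d h
    rw [map_mul, MulAut.mul_apply, h, ← MulAut.mul_apply, ← map_mul, inv_mul_cancel, map_one]
    rfl
  have hF : Function.Injective F := by
    rintro ⟨_, g, hg, rfl⟩ ⟨_, g', hg', rfl⟩ h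
    have h1 : P.conj g a.toMul = P.conj g' a.toMul := congrArg Prod.fst h
    have h2 : P.conj g b.toMul = P.conj g' b.toMul := congrArg Prod.snd h
    have h3 := hab (g'⁻¹ * g)
      (congrArg Additive.ofMul (key g g' _ _ h1)) (congrArg Additive.ofMul (key g g' _ _ h2))
    refine Subtype.ext (MulEquiv.ext fun w => ?_)
    have h4 : P.conj (g'⁻¹ * g) w = w := congrArg Additive.toMul (h3 (Additive.ofMul w))
    rw [map_mul, MulAut.mul_apply, map_inv, MulAut.inv_def, MulEquiv.symm_apply_eq] at h4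
    exact h4
  by_cases hne : a = b
  · left
    refine Nat.card_le_card_of_injective (fun s : P.Cbar => s.1 a.toMul) fun s t h => hF ?_
    show (_, _) = (_, _)
    rw [← hne]
    exact Prod.ext h h
  · right
    have hG : Function.Injective (Sum.elim F (Prod.swap ∘ F)) := by
      have hdis : ∀ s t : P.Cbar, F s ≠ (F t).swap := by
        rintro ⟨_, g, hg, rfl⟩ ⟨_, g', hg', rfl⟩ h
        have h1 : P.conj g a.toMul = P.conj g' b.toMul := congrArg Prod.fst h
        have h2 : P.conj g b.toMul = P.conj g' a.toMul := congrArg Prod.snd h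
        set k := g'⁻¹ * g with hk
        have e1 : k • a = b := congrArg Additive.ofMul (key g g' _ _ h1)
        have e2 : k • b = a := congrArg Additive.ofMul (key g g' _ _ h2)
        exact hne (by rw [← e1, smul_eq_of_sq hodd (show k • k • a = a by rw [e1, e2])])
      rintro (s | s) (t | t) h
      · rw [hF h]
      · exact absurd h (hdis s t)
      · exact absurd h.symm (hdis t s)
      · rw [hF (Prod.swap_injective h)]
    have h := Nat.card_le_card_of_injective _ hG
    rw [Nat.card_sum, Nat.card_prod] at h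
    omega

theorem exponent_W {p n : ℕ} [Fact p.Prime] (hW : Nat.card P.W = p ^ n) (x : P.W) : x ^ p = 1 := by
  letI := P.act
  exact congrArg Additive.toMul (exponent_of_isCR P.isCR_act (p := p) (n := n)
    ((Nat.card_congr Additive.toMul).trans hW) (Additive.ofMul x))

/-- A normalised `p`-group acts trivially on the completely reducible `p`-section. -/
theorem eq_bot_of_isPGroup {p n : ℕ} [hp : Fact p.Prime] (hW : Nat.card P.W = p ^ n)
    {N : Subgroup (MulAut P.W)} (hNr : N ≤ P.conj.range)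
    (hNn : ∀ a : A, ∀ s ∈ N, P.conj a * s * (P.conj a)⁻¹ ∈ N) (hN : IsPGroup p N) : N = ⊥ := by
  letI := P.act
  let U : AddSubgroup (Additive P.W) :=
    { carrier := {x | ∀ s ∈ N, s x.toMul = x.toMul}
      zero_mem' := fun s _ => map_one s
      add_mem' := fun {x y} hx hy s hs => by rw [toMul_add, map_mul, hx s hs, hy s hs]
      neg_mem' := fun {x} hx s hs => by rw [toMul_neg, map_inv, hx s hs] }
  have hU : IsInv A (Additive P.W) U := fun a x hx s hs => by
    show s (P.conj a x.toMul) = P.conj a x.toMul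
    have h := hx _ (hNn a⁻¹ s hs)
    rw [map_inv, inv_inv, MulAut.mul_apply, MulAut.mul_apply, MulAut.inv_def, MulEquiv.symm_apply_eq] at h
    exact h
  obtain ⟨U', hU', h1, h2⟩ := P.isCR_act U hU
  by_cases hU'0 : U' = ⊥
  · rw [hU'0, sup_bot_eq] at h2
    exact (Subgroup.eq_bot_iff_forall N).2 fun s hs => MulEquiv.ext fun w =>
      (h2 ▸ AddSubgroup.mem_top (Additive.ofMul w) : Additive.ofMul w ∈ U) s hs
  exfalso
  have hstable : ∀ s ∈ N, ∀ x ∈ U', Additive.ofMul (s x.toMul) ∈ U' := by
    intro s hs x hx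
    obtain ⟨g, rfl⟩ := hNr hs
    exact hU' g x hx
  letI : MulAction N U' :=
    { smul := fun s x => ⟨Additive.ofMul (s.1 (x : Additive P.W).toMul), hstable s.1 s.2 _ x.2⟩
      one_smul := fun x => Subtype.ext rfl
      mul_smul := fun s t x => Subtype.ext rfl }
  have hd : p ∣ Nat.card U' := by
    obtain ⟨k, -, hk⟩ := (Nat.dvd_prime_pow hp.out).1
      (((Nat.card_congr Additive.toMul).trans hW) ▸ AddSubgroup.card_addSubgroup_dvd_card U')
    rcases k with _ | k
    · exact absurd (AddSubgroup.card_eq_one.1 (by rw [hk, pow_zero])) hU'0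
    · exact hk ▸ dvd_pow_self p (Nat.succ_ne_zero k)
  obtain ⟨b, hb, hb0⟩ := hN.exists_fixed_point_of_prime_dvd_card_of_fixed_point U' hd
    (a := 0) (fun s => Subtype.ext (map_one s.1))
  have hbU : (b : Additive P.W) ∈ U := fun s hs =>
    congrArg (fun y : U' => (y : Additive P.W).toMul) (hb ⟨s, hs⟩)
  have hm : (b : Additive P.W) ∈ U ⊓ U' := ⟨hbU, b.2⟩
  rw [h1, AddSubgroup.mem_bot, ZeroMemClass.coe_eq_zero] at hm
  exact hb0 hm.symm

theorem cbar_le_range : P.Cbar ≤ P.conj.range := Subgroup.map_le_range _ _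

theorem cbar_normalized (a : A) {s : MulAut P.W} (hs : s ∈ P.Cbar) :
    P.conj a * s * (P.conj a)⁻¹ ∈ P.Cbar := by
  obtain ⟨g, hg, rfl⟩ := hs
  exact ⟨a * g * a⁻¹, (inferInstance : P.C.Normal).conj_mem g hg a, by rw [map_mul, map_mul, map_inv]⟩

theorem cbar_dvd (hodd : Odd (Nat.card A)) {p n : ℕ} [Fact p.Prime] (hW : Nat.card P.W = p ^ n)
    {k m : ℕ} (hk : ∏ i : Fin n, (p ^ n - p ^ (i : ℕ)) = 2 ^ k * m) : Nat.card P.Cbar ∣ m := by
  have h := (Subgroup.card_subgroup_dvd_card P.Cbar).trans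
    (card_mulAut_dvd p n hW (P.exponent_W hW))
  rw [hk] at h
  exact (Nat.Coprime.pow_right _ (Nat.coprime_two_right.2 (P.odd_cbar hodd))).dvd_of_dvd_mul_left h

theorem cbar_three (hodd : Odd (Nat.card A)) (hW : Nat.card P.W = 9) : P.C ≤ P.M := by
  haveI : Fact (Nat.Prime 3) := ⟨by norm_num⟩
  have h : Nat.card P.Cbar ∣ 3 ^ 1 :=
    P.cbar_dvd hodd (p := 3) (n := 2) (hW.trans (by norm_num)) (k := 4)
      (by simp [Fin.prod_univ_two])
  refine P.C_le_M_of_cbar (P.eq_bot_of_isPGroup (p := 3) (n := 2) (hW.trans (by norm_num))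
    P.cbar_le_range (fun a s hs => P.cbar_normalized a hs) ?_)
  obtain ⟨j, -, hj⟩ := (Nat.dvd_prime_pow (by norm_num : Nat.Prime 3)).1 h
  exact IsPGroup.of_card hj

theorem cbar_five (hodd : Odd (Nat.card A)) (hW : Nat.card P.W = 25) : Nat.card P.Cbar ≤ 15 := by
  haveI : Fact (Nat.Prime 5) := ⟨by norm_num⟩
  exact Nat.le_of_dvd (by norm_num) (P.cbar_dvd hodd (p := 5) (n := 2) (hW.trans (by norm_num))
    (k := 5) (by simp [Fin.prod_univ_two]))

theorem cbar_seven (hodd : Odd (Nat.card A)) (hW : Nat.card P.W = 49) : Nat.card P.Cbar ≤ 63 := by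
  haveI : Fact (Nat.Prime 7) := ⟨by norm_num⟩
  exact Nat.le_of_dvd (by norm_num) (P.cbar_dvd hodd (p := 7) (n := 2) (hW.trans (by norm_num))
    (k := 5) (by simp [Fin.prod_univ_two]))

theorem cbar_nine (hodd : Odd (Nat.card A)) (hW : Nat.card P.W = 81) : Nat.card P.Cbar ≤ 5 := by
  haveI : Fact (Nat.Prime 3) := ⟨by norm_num⟩
  haveI : Fact (Nat.Prime 13) := ⟨by norm_num⟩
  have h81 : Nat.card P.W = 3 ^ 4 := hW.trans (by norm_num)
  have h : Nat.card P.Cbar ∣ 13 * (5 * 3 ^ 6) :=
    P.cbar_dvd hodd (p := 3) (n := 4) h81 (k := 9) (by simp [Fin.prod_univ_four])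
  have h13 : ¬ 13 ∣ Nat.card P.Cbar := by
    intro hd
    obtain ⟨⟨s, g, hg, rfl⟩, hs⟩ := exists_prime_orderOf_dvd_card' 13 hd
    have hs' : (P.conj g) ^ 13 = 1 := by
      have h := pow_orderOf_eq_one (⟨P.conj g, g, hg, rfl⟩ : P.Cbar)
      rw [hs] at h
      exact congrArg Subtype.val h
    have hσ : (P.conj g).toEquiv ^ 13 = 1 := by
      have h := map_pow (MulAut.toPerm P.W) (P.conj g) 13
      rw [hs', map_one] at h
      exact h.symm
    have hfix := SolvableTransitive.fixes_of_not_dvd P.form P.halt (P.exponent_W h81) (r := 13)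
      (by norm_num) (P.conj g) hσ (P.form_conj hg) ⊤ (fun x _ hx => P.nondeg x fun y => hx y
        (Subgroup.mem_top y)) (fun x => by simp) (fun i hi hle => by
        rw [Subgroup.card_top, h81] at hle
        have : 2 * i ≤ 4 := (Nat.pow_le_pow_iff_right (by norm_num)).1 hle
        have hi2 : i ≤ 2 := by omega
        interval_cases i <;> norm_num)
    have h1 : (⟨P.conj g, g, hg, rfl⟩ : P.Cbar) = 1 :=
      Subtype.ext (MulEquiv.ext fun w => hfix w (Subgroup.mem_top w))
    rw [h1, orderOf_one] at hs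
    norm_num at hs
  have h' : Nat.card P.Cbar ∣ 5 * 3 ^ 6 := Nat.Coprime.dvd_of_dvd_mul_left
    (Nat.coprime_comm.1 ((Nat.Prime.coprime_iff_not_dvd (by norm_num)).2 h13)) h
  obtain ⟨S⟩ : Nonempty (Sylow 3 P.Cbar) := inferInstance
  have hn : Nat.card (Sylow 3 P.Cbar) = 1 := by
    have h1 : Nat.card (Sylow 3 P.Cbar) ∣ 5 * 3 ^ 6 :=
      (Sylow.card_dvd_index S).trans ((Subgroup.index_dvd_card _).trans h')
    have h2 := card_sylow_modEq_one 3 P.Cbar
    have h3 : ¬ 3 ∣ Nat.card (Sylow 3 P.Cbar) := fun hd => by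
      rw [Nat.ModEq, Nat.mod_eq_zero_of_dvd hd] at h2
      norm_num at h2
    have h4 : Nat.card (Sylow 3 P.Cbar) ∣ 5 :=
      (Nat.Coprime.pow_right _ (Nat.coprime_comm.1
        ((Nat.Prime.coprime_iff_not_dvd (by norm_num)).2 h3))).dvd_of_dvd_mul_right h1
    rcases (Nat.dvd_prime (by norm_num)).1 h4 with h5 | h5
    · exact h5
    · rw [h5] at h2; norm_num [Nat.ModEq] at h2
  haveI : Subsingleton (Sylow 3 P.Cbar) := Finite.card_le_one_iff_subsingleton.1 hn.le
  haveI hSn : (S : Subgroup P.Cbar).Normal := Sylow.normal_of_subsingleton S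
  set N := (S : Subgroup P.Cbar).map P.Cbar.subtype with hN
  have hNbot : N = ⊥ := P.eq_bot_of_isPGroup (p := 3) h81
    ((Subgroup.map_subtype_le _).trans P.cbar_le_range) (fun a s hs => by
      obtain ⟨t, ht, rfl⟩ := hs
      let τ : P.Cbar →* P.Cbar :=
        { toFun := fun t => ⟨P.conj a * t.1 * (P.conj a)⁻¹, P.cbar_normalized a t.2⟩
          map_one' := Subtype.ext (by simp)
          map_mul' := fun x y => Subtype.ext (by simp [mul_assoc]) }
      have hle : (S : Subgroup P.Cbar).map τ ≤ (S : Subgroup P.Cbar) := by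
        obtain ⟨Q, hQ⟩ := (S.2.map τ).exists_le_sylow
        rwa [Subsingleton.elim Q S] at hQ
      exact ⟨τ t, hle ⟨t, ht, rfl⟩, rfl⟩)
    (S.2.map _)
  have hS1 : Nat.card (S : Subgroup P.Cbar) = 1 := by
    rw [Nat.card_congr ((S : Subgroup P.Cbar).equivMapOfInjective _ P.Cbar.subtype_injective).toEquiv]
    exact Subgroup.card_eq_one.2 hNbot
  have h3 : ¬ 3 ∣ Nat.card P.Cbar := fun hd => by
    have := S.dvd_card_of_dvd_card hd
    rw [hS1] at this
    norm_num at this
  exact Nat.le_of_dvd (by norm_num) ((Nat.Coprime.pow_right _ (Nat.coprime_comm.1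
    ((Nat.Prime.coprime_iff_not_dvd (by norm_num)).2 h3))).dvd_of_dvd_mul_right h')

end PrimData

end Cfsg.Agent.OddBaseTwo
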