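import Cfsg.Agent.Lib.OddBaseTwo.Idempotents
import Cfsg.Agent.Lib.OddBaseTwo.Count
import Cfsg.Agent.Lib.OddBaseTwo.SmallBounds
import Cfsg.Agent.Lib.OddBaseTwo.Arith
import Cfsg.Agent.Lib.SolvableTransitive.Abelian

/-!
# Completely reducible solvable linear groups of odd order have bases of size two

* `hasBase`: a solvable group of odd order acting completely reducibly on a finite abelian group has
  two vectors such that what fixes both fixes everything.
-/

set_option autoImplicit false
set_option linter.style.haveILetI false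

namespace Cfsg.Agent.OddBaseTwo

open SolvableTransitive MulAction

universe u v

theorem hasBase_primitive {A : Type u} [Group A] [Finite A] {V : Type u} [AddCommGroup V]
    [Finite V] [Nontrivial V] [DistribMulAction A V] [FaithfulSMul A V]
    (hB : BaseBelow.{u} (Nat.card V)) (hsol : Group.IsSolvable A) (hodd : Odd (Nat.card A))
    (hfield : ∀ Z : Subgroup A, Z.Normal → IsMulCommutative ↥Z → IsField ↥(spanRing V Z)) :
    HasBase A V := by
  classical
  obtain ⟨Z, hZn, hZ, hmax⟩ := exists_maximal_abelian_normal (G := A)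
  haveI := hZn
  letI : Field ↥(spanRing V Z) := (hfield Z hZn hZ).toField
  haveI : Finite (AddMonoid.End V) :=
    Finite.of_injective (fun f => (f : V → V)) DFunLike.coe_injective
  obtain ⟨v₀, hv₀⟩ := exists_ne (0 : V)
  set C := Subgroup.centralizer (Z : Set A) with hC
  have hlin : ∀ g ∈ C, ∀ (c : ↥(spanRing V Z)) (x : V), g • c • x = c • g • x :=
    fun g hg c x => DFunLike.congr_fun (spanRing_commute hg c.2) x
  let χ : ↥Z →* (↥(spanRing V Z))ˣ :=
    MonoidHom.toHomUnits (((toEnd V).comp Z.subtype).codRestrict (spanRing V Z)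
      fun a => toEnd_mem_spanRing a.2)
  have hχ : ∀ (a : ↥Z) (x : V),
      (a : A) • x = ((χ a : (↥(spanRing V Z))ˣ) : ↥(spanRing V Z)) • x := fun a x => rfl
  obtain ⟨M, hM, hcent⟩ := exists_goodSection hsol hZ hmax
  let P : PrimData A ↥(spanRing V Z) V := ⟨Z, M, χ, hZn, hχ, hlin, hM, hcent⟩
  by_cases hCZ : P.C = P.Z
  · obtain ⟨a, ha⟩ := IsCyclic.exists_monoid_generator (α := (↥(spanRing V Z))ˣ)
    refine ⟨v₀, (a : ↥(spanRing V Z)) • v₀, fun g hg1 hg2 z => ?_⟩
    have h1 : (galois V Z g (a : ↥(spanRing V Z))) • v₀ = (a : ↥(spanRing V Z)) • v₀ := by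
      have h := smul_apply_eq_galois Z g (a : ↥(spanRing V Z)) v₀
      rw [hg1] at h
      exact h.symm.trans hg2
    have h2 : galois V Z g (a : ↥(spanRing V Z)) = a := by
      rw [← sub_eq_zero, ← sub_smul, smul_eq_zero] at h1
      exact sub_eq_zero.1 (h1.resolve_right hv₀)
    have h3 : galois V Z g = 1 := by
      refine RingEquiv.ext fun x => ?_
      by_cases hx : x = 0
      · rw [hx, map_zero]; rfl
      · obtain ⟨n, hn⟩ := ha (Units.mk0 x hx)
        have hn' : (a : ↥(spanRing V Z)) ^ n = x := by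
          rw [← Units.val_pow_eq_pow_val]
          exact congrArg Units.val hn
        rw [← hn', map_pow, h2]
        rfl
    have hgC : g ∈ P.C := by
      show g ∈ Subgroup.centralizer (Z : Set A)
      rw [← ker_galois (V := V) Z]
      exact h3
    rw [hCZ] at hgC
    by_cases hg : (⟨g, hgC⟩ : ↥P.Z) = 1
    · rw [show g = 1 from congrArg Subtype.val hg, one_smul]
    · exact absurd (P.fix_Z hg hg1) hv₀
  -- the class two section
  set q := Nat.card ↥(spanRing V Z) with hqdef
  set m := Module.finrank ↥(spanRing V Z) V with hmdef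
  have hV : Nat.card V = q ^ m := Module.natCard_eq_pow_finrank (K := ↥(spanRing V Z))
  obtain ⟨e, he⟩ := P.isSquare_W
  have hE1 := P.one_lt_W hCZ
  have heodd : Odd e := (P.odd_card_W hodd).of_dvd_nat ⟨e, he⟩
  have he3 : 3 ≤ e := by
    obtain ⟨j, rfl⟩ := heodd
    rcases j with _ | j
    · norm_num at he; omega
    · omega
  have hem : e ≤ m := Nat.mul_self_le_mul_self_iff.1 (he ▸ P.card_W_le)
  have hdvd : ∀ r : ℕ, r.Prime → r ∣ e → r ∣ q - 1 := fun r hr hre =>
    P.dvd_W hr (he ▸ dvd_mul_of_dvd_left hre e)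
  have hq1 : 1 < q := Finite.one_lt_card
  have hq4 : 4 ≤ q := by
    obtain ⟨r, hr, hre⟩ := Nat.exists_prime_and_dvd (show e ≠ 1 by omega)
    have h1 := Nat.le_of_dvd (by omega) (hdvd r hr hre)
    have h2 : r ≠ 2 := fun h => by
      subst h
      exact Nat.not_even_iff_odd.2 heodd (even_iff_two_dvd.2 hre)
    have := hr.two_le
    omega
  obtain ⟨p, hpc⟩ := CharP.exists ↥(spanRing V Z)
  haveI := Fact.mk (CharP.char_is_prime ↥(spanRing V Z) p)
  have hp := (Fact.out : p.Prime)
  haveI := Fintype.ofFinite ↥(spanRing V Z)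
  obtain ⟨f, -, hf⟩ := FiniteField.card ↥(spanRing V Z) p
  rw [← Nat.card_eq_fintype_card, ← hqdef] at hf
  have hq6 : q ≠ 6 := fun h => by
    rw [h] at hf
    have h2 : (2 : ℕ) ∣ p := Nat.prime_two.dvd_of_dvd_pow (hf ▸ (by norm_num : (2 : ℕ) ∣ 6))
    have h3 : (3 : ℕ) ∣ p := Nat.prime_three.dvd_of_dvd_pow (hf ▸ (by norm_num : (3 : ℕ) ∣ 6))
    have h4 := (Nat.prime_dvd_prime_iff_eq Nat.prime_two hp).1 h2
    omega
  have hkf : P.C.index ∣ (f : ℕ) := by
    show (Subgroup.centralizer (Z : Set A)).index ∣ _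
    rw [← ker_galois (V := V) Z]
    exact index_dvd_of_ker p hf (galois V Z)
  have hkodd : Odd P.C.index := hodd.of_dvd_nat (Subgroup.index_dvd_card _)
  have hk : 2 ^ P.C.index ≤ q := by
    rw [hf]
    exact (Nat.pow_le_pow_right two_pos (Nat.le_of_dvd f.pos hkf)).trans
      (Nat.pow_le_pow_left hp.two_le _)
  have hWlt : Nat.card (Additive P.W) < Nat.card V := by
    rw [Nat.card_congr Additive.toMul, hV]
    calc Nat.card P.W ≤ m * m := P.card_W_le
      _ < 2 ^ m * 2 ^ m := Nat.mul_self_lt_mul_self Nat.lt_two_pow_self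
      _ = 4 ^ m := by rw [← mul_pow]; norm_num
      _ ≤ q ^ m := Nat.pow_le_pow_left hq4 m
  letI : CommGroup P.W := P.commGroupW
  have hb : letI := P.act; HasBase A (Additive P.W) := by
    letI := P.act
    haveI : Finite (Additive P.W) := inferInstanceAs (Finite P.W)
    exact hB A (Additive P.W) hWlt hsol hodd P.isCR_act
  by_cases he3' : e = 3
  · subst he3'
    have hCM := P.cbar_three hodd (he.trans (by norm_num))
    have hbar : Nat.card P.Cbar = 1 := Subgroup.card_eq_one.2 (eq_bot_iff.2 fun s hs => by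
      obtain ⟨g, hg, rfl⟩ := hs
      exact Subgroup.mem_bot.2 (P.conj_eq_one_of_mem (hCM hg)))
    refine P.hasBase_of_bound (B := (q ^ (m / 3) + 1) * (q ^ m - 1)) (X := 9) ?_ rfl
      (fun g hg hgZ => P.coset_bound_three hodd hV hCM hg hgZ) ?_
    · rw [P.index_Z_C, hbar, he]
    · rw [hV]
      exact count_three hq4 hem hk hkodd
  have he5 : 5 ≤ e := by obtain ⟨j, rfl⟩ := heodd; omega
  set X := Nat.card P.Cbar * (e * e) with hX
  have hX2 : 2 * X ≤ e ^ 6 := by
    have hc : 2 * Nat.card P.Cbar ≤ e * e * (e * e) := by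
      rcases P.two_mul_card_Cbar_le hodd hb with h | h
      · rw [he] at h
        have : 2 * (e * e) ≤ e * e * (e * e) := Nat.mul_le_mul_right _ (by nlinarith)
        omega
      · rwa [he] at h
    rw [hX, show e ^ 6 = e * e * (e * e) * (e * e) by ring, ← mul_assoc]
    exact Nat.mul_le_mul_right _ hc
  obtain ⟨hb1, hb2⟩ := bounds_of_e (X := X) he5 heodd hem hq4 hdvd hq6
    (fun h => by subst h; have := P.cbar_five hodd (he.trans (by norm_num)); rw [hX]; omega)
    (fun h => by subst h; have := P.cbar_seven hodd (he.trans (by norm_num)); rw [hX]; omega)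
    (fun h => by subst h; have := P.cbar_nine hodd (he.trans (by norm_num)); rw [hX]; omega) hX2
  refine P.hasBase_of_bound (B := 2 * q ^ (4 * m / 3)) (X := X) ?_ rfl
    (fun g hg hgZ => P.coset_bound hodd hV hg hgZ) ?_
  · rw [P.index_Z_C, he]
  · rw [hV]
    refine count_gen (by omega) (by omega) hb1 hb2 (le_trans ?_ hk)
    rcases Nat.eq_zero_or_pos (P.C.index - 1) with h | h
    · rw [h]; exact Nat.zero_le _
    · calc 2 * (P.C.index - 1) ≤ 2 * 2 ^ (P.C.index - 1) :=
            Nat.mul_le_mul_left 2 Nat.lt_two_pow_self.le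
        _ = 2 ^ P.C.index := by rw [← pow_succ']; congr 1; omega

/-- The image of the group in the permutations of the module acts by automorphisms. -/
@[reducible] def rangeAction (A : Type u) [Group A] (V : Type v) [AddCommGroup V]
    [DistribMulAction A V] : DistribMulAction (MulAction.toPermHom A V).range V :=
  { (inferInstance : MulAction (MulAction.toPermHom A V).range V) with
    smul_zero := fun r => by
      obtain ⟨_, a, rfl⟩ := r
      exact smul_zero a
    smul_add := fun r x y => by
      obtain ⟨_, a, rfl⟩ := r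
      exact smul_add a x y }

theorem hasBase_irreducible {A : Type u} [Group A] [Finite A] {V : Type u} [AddCommGroup V]
    [Finite V] [Nontrivial V] [DistribMulAction A V] [FaithfulSMul A V]
    (hB : BaseBelow.{u} (Nat.card V)) (hsol : Group.IsSolvable A) (hodd : Odd (Nat.card A))
    (hirr : IsIrr A V) : HasBase A V := by
  by_cases hfield : ∀ Z : Subgroup A, Z.Normal → IsMulCommutative ↥Z → IsField ↥(spanRing V Z)
  · exact hasBase_primitive hB hsol hodd hfield
  push Not at hfield
  obtain ⟨Z, hZn, hZ, hnot⟩ := hfield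
  haveI := hZn
  obtain ⟨ι, _, _, W, hW, h2⟩ := (isField_or_decomp hirr Z hZ).resolve_left hnot
  exact hasBase_of_decomp hB hsol hodd hirr hW h2

theorem baseBelow : ∀ n : ℕ, BaseBelow.{u} n := by
  intro n
  induction n using Nat.strong_induction_on with
  | _ n ih =>
  intro A _ _ V _ _ _ hlt hsol hodd hcr
  have hB : BaseBelow.{u} (Nat.card V) := ih _ hlt
  rcases subsingleton_or_nontrivial V with hV | hV
  · exact ⟨0, 0, fun a _ _ z => Subsingleton.elim _ _⟩
  by_cases hirr : IsIrr A V
  swap
  · unfold IsIrr at hirr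
    push Not at hirr
    obtain ⟨U, hU, hU0, hUt⟩ := hirr
    obtain ⟨W, hW, h1, h2⟩ := hcr U hU
    have hWt : W ≠ ⊤ := fun h => hU0 (by rwa [h, inf_top_eq] at h1)
    exact hasBase_of_complement hU hW h1 h2
      (by letI := subAction U hU; exact hB A U (card_lt_of_ne_top hUt) hsol hodd (isCR_subAction hcr hU))
      (by letI := subAction W hW; exact hB A W (card_lt_of_ne_top hWt) hsol hodd (isCR_subAction hcr hW))
  letI := rangeAction A V
  haveI := hsol
  obtain ⟨x, y, hxy⟩ := hasBase_irreducible (A := (MulAction.toPermHom A V).range) (V := V) hB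
    (Group.isSolvable_of_surjective (MulAction.toPermHom A V).rangeRestrict_surjective)
    (odd_card_range hodd _)
    (fun U hU => hirr U fun a z hz => hU ((MulAction.toPermHom A V).rangeRestrict a) z hz)
  exact ⟨x, y, fun a ha hb => hxy ((MulAction.toPermHom A V).rangeRestrict a) ha hb⟩

/-- A solvable group of odd order acting completely reducibly has a base of size two. -/
theorem hasBase {A : Type u} [Group A] [Finite A] {V : Type v} [AddCommGroup V] [Finite V]
    [DistribMulAction A V] (hsol : Group.IsSolvable A) (hodd : Odd (Nat.card A))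
    (hcr : IsCR A V) : HasBase A V := by
  letI := rangeAction A V
  haveI := hsol
  have hinv : ∀ U : AddSubgroup V, IsInv (MulAction.toPermHom A V).range V U ↔ IsInv A V U :=
    fun U => ⟨fun h a => h ((MulAction.toPermHom A V).rangeRestrict a), fun h r => by
      obtain ⟨_, a, rfl⟩ := r
      exact h a⟩
  obtain ⟨x, y, hxy⟩ := baseBelow.{v} (Nat.card V + 1) (MulAction.toPermHom A V).range V
    (Nat.lt_succ_self _) (Group.isSolvable_of_surjective (MulAction.toPermHom A V).rangeRestrict_surjective)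
    (odd_card_range hodd _) (fun U hU => by
      obtain ⟨W, hW, h⟩ := hcr U ((hinv U).1 hU)
      exact ⟨W, (hinv W).2 hW, h⟩)
  exact ⟨x, y, fun a ha hb => hxy ((MulAction.toPermHom A V).rangeRestrict a) ha hb⟩

/-- The statement of S4375, given solvability. -/
theorem exists_pair_stabilizer {A : Type u} [Group A] [Finite A] {V : Type v} [AddCommGroup V]
    [Finite V] [DistribMulAction A V] [FaithfulSMul A V] (hsol : Group.IsSolvable A)
    (hodd : Odd (Nat.card A))
    (hcr : ∀ U : AddSubgroup V, (∀ a : A, ∀ v ∈ U, a • v ∈ U) →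
      ∃ W : AddSubgroup V, (∀ a : A, ∀ w ∈ W, a • w ∈ W) ∧ U ⊓ W = ⊥ ∧ U ⊔ W = ⊤) :
    ∃ v w : V, ∀ a : A, a • v = v → a • w = w → a = 1 := by
  obtain ⟨x, y, hxy⟩ := hasBase hsol hodd hcr
  exact ⟨x, y, fun a ha hb => eq_of_smul_eq_smul fun z : V => by rw [one_smul]; exact hxy a ha hb z⟩

end Cfsg.Agent.OddBaseTwo
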