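import Mathlib.GroupTheory.GroupAction.Basic
import Mathlib.GroupTheory.OrderOfElement
import Mathlib.Algebra.Group.Subgroup.Lattice
import Mathlib.Algebra.GroupWithZero.Action.Defs
import Mathlib.Algebra.GroupWithZero.Action.Basic
import Mathlib.GroupTheory.Perm.Cycle.Type
import Mathlib.Algebra.Ring.Parity
import Mathlib.Algebra.Group.Subgroup.Finite
import Mathlib.SetTheory.Cardinal.Finite
import Mathlib.GroupTheory.Solvable
import Mathlib.Tactic.Abel

/-!
# Bases of size two for completely reducible groups of odd order: basic notions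

A group `A` acts by automorphisms on a finite additive group `V`.

* `HasBase A V`: two vectors such that what fixes both fixes everything.
* `hasBase_of_complement`: the statement passes to a direct sum of two invariant subgroups.
* `smul_eq_of_sq`: in odd order, what is fixed by `g²` is fixed by `g`.
* `exists_nsmul_eq_zero`: an irreducible module has prime exponent.
-/

set_option autoImplicit false
set_option linter.style.haveILetI false

namespace Cfsg.Agent.OddBaseTwo

universe u v

section Defs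

variable (A : Type u) [Group A] (V : Type v) [AddCommGroup V] [DistribMulAction A V]

/-- `U` is invariant under `A`. -/
def IsInv (U : AddSubgroup V) : Prop := ∀ a : A, ∀ x ∈ U, a • x ∈ U

/-- Every invariant subgroup has an invariant complement. -/
def IsCR : Prop :=
  ∀ U : AddSubgroup V, IsInv A V U → ∃ W : AddSubgroup V, IsInv A V W ∧ U ⊓ W = ⊥ ∧ U ⊔ W = ⊤

/-- No invariant subgroups but the trivial ones. -/
def IsIrr : Prop := ∀ U : AddSubgroup V, IsInv A V U → U = ⊥ ∨ U = ⊤

/-- Two vectors whose common stabiliser acts trivially. -/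
def HasBase : Prop := ∃ x y : V, ∀ a : A, a • x = x → a • y = y → ∀ z : V, a • z = z

end Defs

/-- The statement for all completely reducible solvable groups of odd order on smaller modules. -/
def BaseBelow (n : ℕ) : Prop :=
  ∀ (A : Type u) [Group A] [Finite A] (V : Type u) [AddCommGroup V] [Finite V]
    [DistribMulAction A V], Nat.card V < n → Group.IsSolvable A → Odd (Nat.card A) →
    IsCR A V → HasBase A V

variable {A : Type u} [Group A] {V : Type v} [AddCommGroup V] [DistribMulAction A V]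

theorem IsIrr.isCR (h : IsIrr A V) : IsCR A V := by
  intro U hU
  rcases h U hU with rfl | rfl
  · exact ⟨⊤, fun _ x _ => AddSubgroup.mem_top _, inf_top_eq _ |>.trans rfl, bot_sup_eq _⟩
  · exact ⟨⊥, fun a x hx => by rw [AddSubgroup.mem_bot] at hx ⊢; rw [hx, smul_zero],
      inf_bot_eq _, sup_bot_eq _⟩

/-- The action on an invariant subgroup. -/
@[reducible] def subAction (U : AddSubgroup V) (hU : IsInv A V U) : DistribMulAction A U where
  smul a x := ⟨a • (x : V), hU a x x.2⟩
  one_smul x := Subtype.ext (one_smul A (x : V))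
  mul_smul a b x := Subtype.ext (mul_smul a b (x : V))
  smul_zero a := Subtype.ext (smul_zero a)
  smul_add a x y := Subtype.ext (smul_add a (x : V) (y : V))

theorem exists_add_of_sup_eq_top {U W : AddSubgroup V} (h : U ⊔ W = ⊤) (x : V) :
    ∃ y ∈ U, ∃ z ∈ W, y + z = x :=
  AddSubgroup.mem_sup.1 (h ▸ AddSubgroup.mem_top x)

theorem decomp_unique {U W : AddSubgroup V} (h : U ⊓ W = ⊥) {a b c d : V} (ha : a ∈ U)
    (hb : b ∈ W) (hc : c ∈ U) (hd : d ∈ W) (he : a + b = c + d) : a = c ∧ b = d := by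
  have h1 : a - c = d - b := by rw [sub_eq_sub_iff_add_eq_add, he, add_comm]
  have h2 : a - c ∈ U ⊓ W := ⟨U.sub_mem ha hc, h1 ▸ W.sub_mem hd hb⟩
  rw [h, AddSubgroup.mem_bot, sub_eq_zero] at h2
  exact ⟨h2, add_left_cancel (h2 ▸ he)⟩

theorem isCR_subAction (hcr : IsCR A V) {U : AddSubgroup V} (hU : IsInv A V U) :
    letI := subAction U hU
    IsCR A U := by
  letI := subAction U hU
  intro S hS
  have hT : IsInv A V (S.map U.subtype) := by
    rintro a x ⟨s, hs, rfl⟩
    exact ⟨a • s, hS a s hs, rfl⟩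
  obtain ⟨W, hW, h1, h2⟩ := hcr _ hT
  refine ⟨W.comap U.subtype, fun a x hx => hW a x hx, ?_, ?_⟩
  · refine eq_bot_iff.2 fun x hx => ?_
    have h3 : (x : V) ∈ S.map U.subtype ⊓ W := ⟨⟨x, hx.1, rfl⟩, hx.2⟩
    rw [h1, AddSubgroup.mem_bot] at h3
    exact AddSubgroup.mem_bot.2 (Subtype.ext h3)
  · refine eq_top_iff.2 fun x _ => ?_
    obtain ⟨y, ⟨s, hs, rfl⟩, z, hz, hyz⟩ := exists_add_of_sup_eq_top h2 (x : V)
    have hxs : (U.subtype (x - s)) = z := by
      rw [map_sub]
      show (x : V) - U.subtype s = z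
      rw [← hyz, add_sub_cancel_left]
    rw [show x = s + (x - s) by abel]
    exact AddSubgroup.add_mem_sup hs (show U.subtype (x - s) ∈ W from hxs ▸ hz)

theorem hasBase_of_complement {U W : AddSubgroup V} (hU : IsInv A V U) (hW : IsInv A V W)
    (h1 : U ⊓ W = ⊥) (h2 : U ⊔ W = ⊤)
    (hbU : letI := subAction U hU; HasBase A U) (hbW : letI := subAction W hW; HasBase A W) :
    HasBase A V := by
  obtain ⟨u₁, u₂, hu⟩ := hbU
  obtain ⟨w₁, w₂, hw⟩ := hbW
  refine ⟨(u₁ : V) + w₁, (u₂ : V) + w₂, fun a ha1 ha2 z => ?_⟩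
  rw [smul_add] at ha1 ha2
  obtain ⟨e1, e2⟩ := decomp_unique h1 (hU a _ u₁.2) (hW a _ w₁.2) u₁.2 w₁.2 ha1
  obtain ⟨e3, e4⟩ := decomp_unique h1 (hU a _ u₂.2) (hW a _ w₂.2) u₂.2 w₂.2 ha2
  obtain ⟨y, hy, x, hx, rfl⟩ := exists_add_of_sup_eq_top h2 z
  rw [smul_add, show a • y = y from congrArg Subtype.val
      (hu a (Subtype.ext e1) (Subtype.ext e3) ⟨y, hy⟩),
    show a • x = x from congrArg Subtype.val (hw a (Subtype.ext e2) (Subtype.ext e4) ⟨x, hx⟩)]

theorem card_lt_of_ne_top [Finite V] {U : AddSubgroup V} (hU : U ≠ ⊤) :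
    Nat.card U < Nat.card V :=
  lt_of_le_of_ne (AddSubgroup.card_le_card_addGroup U) fun h => hU (AddSubgroup.eq_top_of_card_eq U h)

/-! ## Odd order -/

theorem eq_sq_pow {G : Type u} [Group G] [Finite G] (h : Odd (Nat.card G)) (g : G) :
    ∃ k : ℕ, (g ^ 2) ^ k = g := by
  obtain ⟨j, hj⟩ := h
  refine ⟨j + 1, ?_⟩
  rw [← pow_mul, show 2 * (j + 1) = Nat.card G + 1 by omega, pow_succ, pow_card_eq_one', one_mul]

theorem smul_eq_of_sq {G : Type u} [Group G] [Finite G] {X : Type v} [MulAction G X]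
    (h : Odd (Nat.card G)) {g : G} {x : X} (hx : g • g • x = x) : g • x = x := by
  obtain ⟨k, hk⟩ := eq_sq_pow h g
  have h2 : g ^ 2 ∈ MulAction.stabilizer G x := by
    rw [MulAction.mem_stabilizer_iff, sq, mul_smul, hx]
  have h3 := (MulAction.stabilizer G x).pow_mem h2 k
  rwa [hk] at h3

theorem odd_card_subgroup {G : Type u} [Group G] [Finite G] (h : Odd (Nat.card G))
    (H : Subgroup G) : Odd (Nat.card H) := h.of_dvd_nat (Subgroup.card_subgroup_dvd_card H)

theorem odd_card_range {G : Type u} {G' : Type v} [Group G] [Finite G] [Group G']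
    (h : Odd (Nat.card G)) (f : G →* G') : Odd (Nat.card f.range) :=
  h.of_dvd_nat (Subgroup.card_range_dvd f)

/-! ## Irreducible modules -/

theorem exists_nsmul_eq_zero [Finite V] [Nontrivial V] (hirr : IsIrr A V) :
    ∃ p : ℕ, p.Prime ∧ ∀ x : V, p • x = 0 := by
  obtain ⟨p, hp, hpd⟩ := Nat.exists_prime_and_dvd (Finite.one_lt_card (α := V)).ne'
  have := Fact.mk hp
  obtain ⟨x₀, hx₀⟩ := exists_prime_addOrderOf_dvd_card' p hpd
  let U : AddSubgroup V := (nsmulAddMonoidHom (α := V) p).ker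
  refine ⟨p, hp, fun x => ?_⟩
  have hU : IsInv A V U := fun a y hy => by
    change p • (a • y) = 0
    rw [smul_comm, show p • y = 0 from hy, smul_zero]
  rcases hirr U hU with h | h
  · exfalso
    have hm : x₀ ∈ U := show p • x₀ = 0 by rw [← hx₀]; exact addOrderOf_nsmul_eq_zero x₀
    rw [h, AddSubgroup.mem_bot] at hm
    rw [hm, addOrderOf_zero] at hx₀
    exact hp.ne_one hx₀.symm
  · exact (h ▸ AddSubgroup.mem_top x : x ∈ U)

end Cfsg.Agent.OddBaseTwo
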