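import Cfsg.Agent.Lib.OddBaseTwo.Imprimitive
import Cfsg.Agent.Lib.SolvableTransitive.Field

/-!
# Field or decomposition

`isField_or_decomp`: for an abelian normal subgroup of an irreducible linear group, either the spanned
ring is a field or its primitive idempotents give a permuted decomposition.
-/

set_option autoImplicit false
set_option linter.style.haveILetI false

namespace Cfsg.Agent.OddBaseTwo

open SolvableTransitive

universe u v

/-- A primitive idempotent. -/
def IsPrimIdem {R : Type u} [CommRing R] (e : R) : Prop :=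
  e * e = e ∧ e ≠ 0 ∧ ∀ f : R, f * f = f → f * e = f → f = 0 ∨ f = e

section Ring

variable {R : Type u} [CommRing R] [Finite R]

theorem exists_primIdem_le {f : R} (hf : f * f = f) (hf0 : f ≠ 0) :
    ∃ e : R, IsPrimIdem e ∧ e * f = e := by
  obtain ⟨e, ⟨he, he0, hef⟩, hmin⟩ := Set.exists_min_image {e : R | e * e = e ∧ e ≠ 0 ∧ e * f = e}
    (fun e => {x : R | x * e = x}.ncard) (Set.toFinite _) ⟨f, hf, hf0, hf⟩
  refine ⟨e, ⟨he, he0, fun g hg hge => ?_⟩, hef⟩
  by_contra! h
  have hgf : g * f = g := by rw [← hge, mul_assoc, hef]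
  have hle := hmin g ⟨hg, h.1, hgf⟩
  have hsub : {x : R | x * g = x} ⊆ {x : R | x * e = x} := fun x (hx : x * g = x) =>
    show x * e = x by rw [← hx, mul_assoc, hge]
  have heq := Set.eq_of_subset_of_ncard_le hsub hle
  have h1 : e ∈ {x : R | x * g = x} := heq.symm ▸ he
  exact h.2 (by rw [← hge, mul_comm]; exact h1)

theorem primIdem_orth {e e' : R} (he : IsPrimIdem e) (he' : IsPrimIdem e') (hne : e ≠ e') :
    e * e' = 0 := by
  have hi : e * e' * (e * e') = e * e' := by rw [mul_mul_mul_comm, he.1, he'.1]
  by_contra h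
  have h1 := (he.2.2 _ hi (by rw [mul_comm e e', mul_assoc, he.1])).resolve_left h
  have h2 := (he'.2.2 _ hi (by rw [mul_assoc, he'.1])).resolve_left h
  exact hne (h1.symm.trans h2)

theorem exists_idem_pow (x : R) : ∃ n : ℕ, 0 < n ∧ x ^ n * x ^ n = x ^ n := by
  obtain ⟨a, b, hne, heq⟩ := Finite.exists_ne_map_eq_of_infinite (fun k : ℕ => x ^ k)
  wlog hab : a < b generalizing a b
  · exact this b a hne.symm heq.symm (lt_of_le_of_ne (not_lt.mp hab) hne.symm)
  set t := b - a
  have hper : ∀ s k, a ≤ k → x ^ (k + s * t) = x ^ k := by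
    intro s
    induction s with
    | zero => intro k _; rw [zero_mul, add_zero]
    | succ s ih =>
      intro k hk
      rw [show k + (s + 1) * t = k + s * t + t by ring,
        show k + s * t + t = (k + s * t - a) + b by omega, pow_add, ← heq, ← pow_add,
        Nat.sub_add_cancel (hk.trans (Nat.le_add_right _ _)), ih k hk]
  have ht : 0 < t := by omega
  exact ⟨(a + 1) * t, Nat.mul_pos (by omega) ht, by
    rw [← pow_add]
    exact hper _ _ ((Nat.le_succ a).trans (Nat.le_mul_of_pos_right _ ht))⟩

theorem isField_of_idem_trivial [Nontrivial R] (hred : ∀ x : R, IsNilpotent x → x = 0)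
    (hid : ∀ f : R, f * f = f → f = 0 ∨ f = 1) : IsField R := by
  refine ⟨⟨0, 1, zero_ne_one⟩, mul_comm, fun {x} hx => ?_⟩
  obtain ⟨n, hn, he⟩ := exists_idem_pow x
  rcases hid _ he with h | h
  · exact absurd (hred x ⟨n, h⟩) hx
  · exact ⟨x ^ (n - 1), by rw [← pow_succ', Nat.sub_add_cancel hn, h]⟩

end Ring

variable {A : Type u} [Group A] {V : Type u} [AddCommGroup V] [DistribMulAction A V] [Finite V]
  [Nontrivial V]

theorem isField_or_decomp (hirr : IsIrr A V) (Z : Subgroup A) [Z.Normal]
    (hZ : IsMulCommutative ↥Z) : IsField ↥(spanRing V Z) ∨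
      ∃ (ι : Type u) (_ : Fintype ι) (_ : MulAction A ι) (W : ι → AddSubgroup V),
        IsDecomp (A := A) W ∧ 1 < Fintype.card ι := by
  classical
  haveI : Finite (AddMonoid.End V) :=
    Finite.of_injective (fun f => (f : V → V)) DFunLike.coe_injective
  letI : CommRing ↥(spanRing V Z) :=
    { (inferInstance : Ring ↥(spanRing V Z)) with
      mul_comm := fun x y => Subtype.ext (spanRing_comm hZ x.2 y.2) }
  let ev : ↥(spanRing V Z) → V → V := fun x v => (x : AddMonoid.End V) v
  have hext : ∀ x y : ↥(spanRing V Z), (∀ v, ev x v = ev y v) → x = y := fun x y h =>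
    Subtype.ext (AddMonoidHom.ext h)
  obtain ⟨v₀, hv₀⟩ := exists_ne (0 : V)
  haveI : Nontrivial ↥(spanRing V Z) := ⟨⟨0, 1, fun h => hv₀ (by
    have h1 := congrArg (fun x => ev x v₀) h
    exact h1.symm)⟩⟩
  -- reducedness
  have hred : ∀ x : ↥(spanRing V Z), IsNilpotent x → x = 0 := by
    let U : AddSubgroup V := AddSubgroup.closure
      {w | ∃ x : ↥(spanRing V Z), IsNilpotent x ∧ ∃ v, ev x v = w}
    have hU : IsInv A V U := by
      intro a w hw
      induction hw using AddSubgroup.closure_induction with
      | mem w hw =>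
        obtain ⟨x, hx, v, rfl⟩ := hw
        exact AddSubgroup.subset_closure ⟨galois V Z a x, hx.map (galois V Z a), a • v,
          (smul_apply_eq_galois Z a x v).symm⟩
      | zero => rw [smul_zero]; exact zero_mem _
      | add _ _ _ _ h1 h2 => rw [smul_add]; exact add_mem h1 h2
      | neg _ _ h => rw [smul_neg]; exact neg_mem h
    rcases hirr U hU with h | h
    · intro x hx
      refine hext x 0 fun v => ?_
      have hm : ev x v ∈ U := AddSubgroup.subset_closure ⟨x, hx, v, rfl⟩
      rw [h, AddSubgroup.mem_bot] at hm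
      exact hm
    · exfalso
      obtain ⟨y, hy0, hmin⟩ := Set.exists_min_image {y : ↥(spanRing V Z) | y ≠ 0}
        (fun y => (Set.range (ev y)).ncard) (Set.toFinite _) ⟨1, one_ne_zero⟩
      refine hy0 (hext y 0 fun v => ?_)
      have hv : v ∈ U := h ▸ AddSubgroup.mem_top v
      show (y : AddMonoid.End V) v = 0
      induction hv using AddSubgroup.closure_induction with
      | mem w hw =>
        obtain ⟨x, hx, u, rfl⟩ := hw
        have hzero : y * x = 0 := by
          by_contra hne
          have hsub : Set.range (ev (y * x)) ⊆ Set.range (ev y) := by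
            rintro _ ⟨t, rfl⟩; exact ⟨ev x t, rfl⟩
          have heq := Set.eq_of_subset_of_ncard_le hsub (hmin _ hne)
          obtain ⟨k, hk⟩ := hx
          have hall : ∀ (j : ℕ) (t : V), ∃ s, ev (y * x ^ j) s = ev y t := by
            intro j
            induction j with
            | zero => exact fun t => ⟨t, by rw [pow_zero, mul_one]⟩
            | succ j ih =>
              intro t
              obtain ⟨s, hs⟩ := (heq.symm ▸ ⟨t, rfl⟩ : ev y t ∈ Set.range (ev (y * x)))
              rw [mul_comm] at hs
              obtain ⟨r, hr⟩ := ih s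
              refine ⟨r, ?_⟩
              rw [← hs, pow_succ', ← mul_assoc, mul_comm y x, mul_assoc]
              show ev x (ev (y * x ^ j) r) = ev x (ev y s)
              rw [hr]
          refine hy0 (hext y 0 fun t => ?_)
          obtain ⟨s, hs⟩ := hall k t
          rw [hk, mul_zero] at hs
          exact hs.symm
        exact congrArg (fun z => ev z u) hzero
      | zero => exact map_zero _
      | add _ _ _ _ h1 h2 => rw [map_add, h1, h2, add_zero]
      | neg _ _ h => rw [map_neg, h, neg_zero]
  -- the primitive idempotents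
  let ι := {e : ↥(spanRing V Z) // IsPrimIdem e}
  haveI : Fintype ι := Fintype.ofFinite ι
  have hprim : ∀ (a : A) (e : ↥(spanRing V Z)), IsPrimIdem e → IsPrimIdem (galois V Z a e) := by
    intro a e he
    refine ⟨by rw [← map_mul, he.1], fun h => he.2.1 ((galois V Z a).injective (h.trans (map_zero _).symm)),
      fun f hf hfe => ?_⟩
    rcases he.2.2 ((galois V Z a).symm f) (by rw [← map_mul, hf])
        ((galois V Z a).injective (by rw [map_mul, RingEquiv.apply_symm_apply, hfe])) with h | h
    · exact Or.inl ((galois V Z a).symm.injective (h.trans (map_zero _).symm))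
    · exact Or.inr ((galois V Z a).symm_apply_eq.1 h)
  letI act : MulAction A ι :=
    { smul := fun a e => ⟨galois V Z a e.1, hprim a e.1 e.2⟩
      one_smul := fun e => Subtype.ext (by show galois V Z 1 e.1 = _; rw [map_one]; rfl)
      mul_smul := fun a b e => Subtype.ext (by
        show galois V Z (a * b) e.1 = galois V Z a (galois V Z b e.1)
        rw [map_mul]; rfl) }
  have hsum : (∑ e : ι, e.1) = 1 := by
    set s := ∑ e : ι, e.1 with hs
    have hes : ∀ e : ι, e.1 * s = e.1 := fun e => by
      rw [hs, Finset.mul_sum, Finset.sum_eq_single e (fun e' _ hne =>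
        primIdem_orth e.2 e'.2 fun h => hne (Subtype.ext h.symm)) (by simp), e.2.1]
    have hss : s * s = s := by
      conv_lhs => arg 1; rw [hs]
      rw [Finset.sum_mul]
      exact Finset.sum_congr rfl fun e _ => hes e
    by_contra hne
    obtain ⟨e, he, hle⟩ := exists_primIdem_le (f := 1 - s)
      (by rw [sub_mul, one_mul, mul_sub, mul_one, hss, sub_self, sub_zero]) (sub_ne_zero.2 (Ne.symm hne))
    rw [mul_sub, mul_one, show e * s = e from hes ⟨e, he⟩, sub_self] at hle
    exact he.2.1 hle.symm
  rcases Nat.lt_or_ge 1 (Fintype.card ι) with h2 | h1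
  · right
    let W : ι → AddSubgroup V := fun e => (e.1 : AddMonoid.End V).range
    have hfix : ∀ (e : ι) (x : V), x ∈ W e → ev e.1 x = x := by
      rintro e _ ⟨t, rfl⟩
      show ev (e.1 * e.1) t = ev e.1 t
      rw [e.2.1]
    have hkill : ∀ (e e' : ι) (x : V), x ∈ W e' → e ≠ e' → ev e.1 x = 0 := by
      rintro e e' _ ⟨t, rfl⟩ hne
      show ev (e.1 * e'.1) t = 0
      rw [primIdem_orth e.2 e'.2 fun h => hne (Subtype.ext h)]
      rfl
    refine ⟨ι, inferInstance, act, W, ⟨⟨fun f g hfg => funext fun e => Subtype.ext ?_, fun v => ?_⟩,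
      ?_, ?_⟩, h2⟩
    · have key : ∀ f : (i : ι) → W i, ev e.1 (∑ i, (f i : V)) = f e := fun f => by
        show (e.1 : AddMonoid.End V) (∑ i, (f i : V)) = _
        rw [map_sum]
        exact (Finset.sum_eq_single e (fun i _ hne => hkill e i _ (f i).2 (Ne.symm hne))
          (by simp)).trans (hfix e _ (f e).2)
      rw [← key f, ← key g]
      exact congrArg (ev e.1) hfg
    · refine ⟨fun e => ⟨ev e.1 v, v, rfl⟩, ?_⟩
      show ∑ e : ι, ev e.1 v = v
      have h : ev (∑ e : ι, e.1) v = v := by rw [hsum]; rfl
      refine Eq.trans ?_ h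
      show ∑ e : ι, (e.1 : AddMonoid.End V) v = ((∑ e : ι, e.1 : ↥(spanRing V Z)) : AddMonoid.End V) v
      rw [show ((∑ e : ι, e.1 : ↥(spanRing V Z)) : AddMonoid.End V) = ∑ e : ι, (e.1 : AddMonoid.End V)
        from map_sum (spanRing V Z).subtype _ _]
      exact (AddMonoidHom.finsetSum_apply _ _ _).symm
    · rintro a e _ ⟨t, rfl⟩
      exact ⟨a • t, (smul_apply_eq_galois Z a e.1 t).symm⟩
    · intro e h
      refine e.2.2.1 (hext _ _ fun v => ?_)
      have hm : ev e.1 v ∈ W e := ⟨v, rfl⟩
      rw [h, AddSubgroup.mem_bot] at hm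
      exact hm
  · left
    have hone : ∀ f : ↥(spanRing V Z), f * f = f → f = 0 ∨ f = 1 := by
      intro f hf
      by_cases hf0 : f = 0
      · exact Or.inl hf0
      right
      obtain ⟨e, he, hle⟩ := exists_primIdem_le hf hf0
      haveI : Subsingleton ι := Fintype.card_le_one_iff_subsingleton.1 h1
      have he1 : e = 1 := by
        rw [← hsum, Finset.sum_eq_single (⟨e, he⟩ : ι) (fun i _ hne => absurd (Subsingleton.elim _ _) hne)
          (by simp)]
      rw [he1, one_mul] at hle
      exact hle
    exact isField_of_idem_trivial hred hone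

end Cfsg.Agent.OddBaseTwo
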